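import Mathlib.GroupTheory.Sylow
import Mathlib.GroupTheory.Abelianization.Defs
import Mathlib.Algebra.Group.End
import Mathlib.GroupTheory.Nilpotent
import Mathlib.GroupTheory.SpecificGroups.Cyclic
set_option linter.all false

/-!
# `p'`-automorphisms of a `p`-group fixing the small elements (helper794)

A `p'`-automorphism of a finite `p`-group fixing every element of order `p` (and every element of order 4 when
`p = 2`) is trivial.
-/

set_option autoImplicit false

namespace Cfsg.Agent.H794

/-- If a `p'`-automorphism `b` of a `p`-group fixes `x⁻¹ * b x`, it fixes `x`. -/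
theorem fix_of_fix_div {Q : Type*} [Group Q] {p : ℕ} (hQ : IsPGroup p Q) (b : MulAut Q)
    (hb : (orderOf b).Coprime p) (x : Q) (h : b (x⁻¹ * b x) = x⁻¹ * b x) : b x = x := by
  set c := x⁻¹ * b x with hc
  have hbx : b x = x * c := by rw [hc]; group
  have hpow : ∀ n : ℕ, (b ^ n) x = x * c ^ n := by
    intro n
    induction n with
    | zero => simp
    | succ n ih =>
      rw [pow_succ', MulAut.mul_apply, ih, map_mul, map_pow, h, hbx, pow_succ', mul_assoc]
  have h1 := hpow (orderOf b)
  rw [pow_orderOf_eq_one, MulAut.one_apply] at h1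
  have h2 : c ^ orderOf b = 1 := by
    have : x * 1 = x * c ^ orderOf b := by rw [mul_one]; exact h1
    exact (mul_left_cancel this).symm
  obtain ⟨k, hk⟩ := hQ c
  have h3 : orderOf c ∣ orderOf b := orderOf_dvd_of_pow_eq_one h2
  have h4 : orderOf c ∣ p ^ k := orderOf_dvd_of_pow_eq_one hk
  have h5 : (orderOf b).Coprime (p ^ k) := Nat.Coprime.pow_right k hb
  have h6 : orderOf c = 1 := Nat.eq_one_of_dvd_coprimes h5 h3 h4
  rw [orderOf_eq_one_iff] at h6
  rw [hbx, h6, mul_one]

/-- class-two commutation formula -/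
theorem pow_mul_of_central_comm {Q : Type*} [Group Q] (x y z : Q) (h : y * x = x * y * z)
    (hzy : z * y = y * z) (n : ℕ) : y ^ n * x = x * y ^ n * z ^ n := by
  have hz' : ∀ k, z ^ k * y = y * z ^ k := fun k => (Commute.pow_left hzy k)
  induction n with
  | zero => simp
  | succ n ih =>
    calc y ^ (n + 1) * x = y ^ n * (y * x) := by rw [pow_succ]; group
      _ = y ^ n * (x * y * z) := by rw [h]
      _ = (y ^ n * x) * (y * z) := by group
      _ = x * y ^ n * z ^ n * (y * z) := by rw [ih]
      _ = x * y ^ n * (z ^ n * y) * z := by group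
      _ = x * y ^ n * (y * z ^ n) * z := by rw [hz']
      _ = x * y ^ (n + 1) * z ^ (n + 1) := by rw [pow_succ, pow_succ]; group

/-- class-two power formula -/
theorem mul_pow_of_central_comm {Q : Type*} [Group Q] (x y z : Q) (h : y * x = x * y * z)
    (hzx : z * x = x * z) (hzy : z * y = y * z) (n : ℕ) :
    (x * y) ^ n = x ^ n * y ^ n * z ^ (n * (n - 1) / 2) := by
  have hz : ∀ k, z ^ k * x = x * z ^ k := fun k => (Commute.pow_left hzx k)
  have hz' : ∀ k, z ^ k * y = y * z ^ k := fun k => (Commute.pow_left hzy k)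
  have hy : ∀ n : ℕ, y ^ n * x = x * y ^ n * z ^ n := pow_mul_of_central_comm x y z h hzy
  induction n with
  | zero => simp
  | succ n ih =>
    have hn : (n + 1) * (n + 1 - 1) / 2 = n * (n - 1) / 2 + n := by
      rcases n with _ | n
      · rfl
      · have : (n + 1 + 1) * (n + 1 + 1 - 1) = (n + 1) * (n + 1 - 1) + 2 * (n + 1) := by
          simp only [Nat.add_sub_cancel]; ring
        rw [this, Nat.add_mul_div_left _ _ (by norm_num)]
    have hzpow : ∀ k l : ℕ, z ^ k * y ^ l = y ^ l * z ^ k := fun k l => (Commute.pow_pow hzy k l)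
    calc (x * y) ^ (n + 1) = (x * y) ^ n * (x * y) := pow_succ _ _
      _ = x ^ n * y ^ n * z ^ (n * (n - 1) / 2) * (x * y) := by rw [ih]
      _ = x ^ n * y ^ n * (z ^ (n * (n - 1) / 2) * x) * y := by group
      _ = x ^ n * y ^ n * (x * z ^ (n * (n - 1) / 2)) * y := by rw [hz]
      _ = x ^ n * (y ^ n * x) * (z ^ (n * (n - 1) / 2) * y) := by group
      _ = x ^ n * (x * y ^ n * z ^ n) * (y * z ^ (n * (n - 1) / 2)) := by rw [hy, hz']
      _ = x ^ n * x * y ^ n * (z ^ n * y) * z ^ (n * (n - 1) / 2) := by simp only [mul_assoc]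
      _ = x ^ n * x * y ^ n * (y * z ^ n) * z ^ (n * (n - 1) / 2) := by rw [hz']
      _ = x ^ (n + 1) * y ^ (n + 1) * (z ^ n * z ^ (n * (n - 1) / 2)) := by
        rw [pow_succ x, pow_succ y]
        simp only [mul_assoc]
      _ = x ^ (n + 1) * y ^ (n + 1) * z ^ ((n + 1) * (n + 1 - 1) / 2) := by
        rw [hn, ← pow_add, Nat.add_comm n (n * (n - 1) / 2)]

/-- In a nontrivial finite `p`-group there is a proper characteristic subgroup containing all `p`-th powers and
all commutators. -/
theorem exists_proper_frattini {Q : Type*} [Group Q] [Finite Q] [Nontrivial Q] {p : ℕ}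
    [hp : Fact p.Prime] (hQ : IsPGroup p Q) :
    ∃ N : Subgroup Q, N ≠ ⊤ ∧ (∀ b : MulAut Q, ∀ x ∈ N, b x ∈ N) ∧ (∀ x : Q, x ^ p ∈ N) ∧
      (∀ x y : Q, x * y * x⁻¹ * y⁻¹ ∈ N) := by
  set f : Abelianization Q →* Abelianization Q := powMonoidHom p with hf
  refine ⟨f.range.comap Abelianization.of, ?_, ?_, ?_, ?_⟩
  · intro htop
    have hsurj : Function.Surjective f := by
      intro y
      obtain ⟨x, rfl⟩ := QuotientGroup.mk_surjective y
      have : x ∈ f.range.comap Abelianization.of := by rw [htop]; trivial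
      exact this
    have hfinA : Finite (Abelianization Q) := Finite.of_surjective _ QuotientGroup.mk_surjective
    have hinj : Function.Injective f := Finite.injective_iff_surjective.2 hsurj
    -- the abelianization is nontrivial
    have hnil : Group.IsNilpotent Q := hQ.isNilpotent
    have hsol : Group.IsSolvable Q := inferInstance
    have hcomm : commutator Q < ⊤ := Group.IsSolvable.commutator_lt_top_of_nontrivial Q
    obtain ⟨g, -, hg⟩ := SetLike.exists_of_lt hcomm
    have hnt : Abelianization.of g ≠ (1 : Abelianization Q) := by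
      intro h
      apply hg
      rw [← Abelianization.ker_of]
      exact h
    have hpA : IsPGroup p (Abelianization Q) := by
      intro y
      obtain ⟨x, rfl⟩ := QuotientGroup.mk_surjective y
      obtain ⟨k, hk⟩ := hQ x
      refine ⟨k, ?_⟩
      show (Abelianization.of x) ^ p ^ k = 1
      rw [← map_pow, hk, map_one]
    obtain ⟨k, hk⟩ := hpA (Abelianization.of g)
    -- iterate injectivity
    have hiter : ∀ k : ℕ, ∀ y : Abelianization Q, y ^ p ^ k = 1 → y = 1 := by
      intro k
      induction k with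
      | zero => intro y hy; simpa using hy
      | succ k ih =>
        intro y hy
        apply ih
        apply hinj
        show (y ^ p ^ k) ^ p = (1 : Abelianization Q) ^ p
        rw [← pow_mul, ← pow_succ, hy, one_pow]
    exact hnt (hiter k _ hk)
  · intro b x hx
    obtain ⟨y, hy⟩ := hx
    obtain ⟨z, rfl⟩ := QuotientGroup.mk_surjective y
    have hy' : (Abelianization.of z) ^ p = Abelianization.of x := hy
    refine ⟨Abelianization.of (b z), ?_⟩
    show (Abelianization.of (b z)) ^ p = Abelianization.of (b x)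
    have h1 : (z ^ p)⁻¹ * x ∈ commutator Q := by
      rw [← Abelianization.ker_of, MonoidHom.mem_ker, map_mul, map_inv, map_pow, hy']
      group
    have h2 : b ((z ^ p)⁻¹ * x) ∈ commutator Q := by
      have : (commutator Q).map b.toMonoidHom = commutator Q :=
        Subgroup.characteristic_iff_map_eq.1 inferInstance b
      rw [← this]
      exact ⟨_, h1, rfl⟩
    rw [← Abelianization.ker_of, MonoidHom.mem_ker, map_mul, map_inv, map_pow, map_mul, map_inv,
      map_pow] at h2
    rw [← map_pow, ← map_pow]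
    rw [map_pow]
    exact inv_mul_eq_one.1 h2
  · intro x
    exact ⟨Abelianization.of x, rfl⟩
  · intro x y
    refine ⟨1, ?_⟩
    rw [map_one]
    symm
    rw [← MonoidHom.mem_ker, Abelianization.ker_of]
    exact Subgroup.commutator_mem_commutator (Subgroup.mem_top x) (Subgroup.mem_top y)

/-- Restriction of an automorphism to an invariant subgroup of a finite group. -/
theorem exists_restrict {Q : Type*} [Group Q] [Finite Q] (b : MulAut Q) (H : Subgroup Q)
    (hinv : ∀ x ∈ H, b x ∈ H) :
    ∃ c : MulAut H, (∀ y : H, ((c y : H) : Q) = b y) ∧ orderOf c ∣ orderOf b := by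
  have hinv' : ∀ x ∈ H, b⁻¹ x ∈ H := by
    intro x hx
    have hpow : ∀ k : ℕ, ∀ x ∈ H, (b ^ k) x ∈ H := by
      intro k
      induction k with
      | zero => intro x hx; simpa using hx
      | succ k ihk =>
        intro x hx
        rw [pow_succ', MulAut.mul_apply]
        exact hinv _ (ihk x hx)
    have hfin : IsOfFinOrder b := by
      have : Finite (MulAut Q) := inferInstance
      exact isOfFinOrder_of_finite b
    have h1 : b⁻¹ = b ^ (orderOf b - 1) := by
      rw [inv_eq_iff_mul_eq_one, ← pow_succ', Nat.sub_add_cancel hfin.orderOf_pos,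
        pow_orderOf_eq_one]
    rw [h1]
    exact hpow _ x hx
  let c : MulAut H :=
    { toFun := fun y => ⟨b y, hinv y y.2⟩
      invFun := fun y => ⟨b⁻¹ y, hinv' y y.2⟩
      left_inv := fun y => Subtype.ext (MulAut.inv_apply_self Q b y)
      right_inv := fun y => Subtype.ext (MulAut.apply_inv_self Q b y)
      map_mul' := fun y z => Subtype.ext (map_mul b _ _) }
  have hcpow : ∀ (k : ℕ) (y : H), (((c ^ k) y : H) : Q) = (b ^ k) y := by
    intro k
    induction k with
    | zero => intro y; rfl
    | succ k ihk =>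
      intro y
      rw [pow_succ', pow_succ', MulAut.mul_apply, MulAut.mul_apply, ← ihk y]
      rfl
  refine ⟨c, fun y => rfl, orderOf_dvd_of_pow_eq_one ?_⟩
  apply MulEquiv.ext
  intro y
  apply Subtype.ext
  rw [hcpow, pow_orderOf_eq_one]
  rfl

/-- A `p'`-automorphism of a finite `p`-group that fixes every element of order `p`, and every element of order 4
when `p = 2`, is trivial. -/
theorem fix_of_fix_small {p : ℕ} [hp : Fact p.Prime] : ∀ (n : ℕ) {Q : Type*} [Group Q] [Finite Q],
    Nat.card Q = n → IsPGroup p Q → ∀ b : MulAut Q, (orderOf b).Coprime p →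
    (∀ x : Q, (x ^ p = 1 ∨ (p = 2 ∧ x ^ 4 = 1)) → b x = x) → ∀ x, b x = x := by
  intro n
  induction n using Nat.strong_induction_on with
  | _ n ih =>
  intro Q _ _ hn hQ b hb h
  by_contra hne
  push Not at hne
  obtain ⟨x₀, hx₀⟩ := hne
  have hnt : Nontrivial Q := ⟨b x₀, x₀, hx₀⟩
  -- `b` is trivial on every proper invariant subgroup
  have hprop : ∀ H : Subgroup Q, H ≠ ⊤ → (∀ x ∈ H, b x ∈ H) → ∀ x ∈ H, b x = x := by
    intro H hH hinv x hx
    obtain ⟨c, hce, hcd⟩ := exists_restrict b H hinv
    have hc : (orderOf c).Coprime p := Nat.Coprime.coprime_dvd_left hcd hb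
    have hlt : Nat.card H < n := by
      rw [← hn]
      have h1 := Subgroup.card_le_card_group H
      refine lt_of_le_of_ne h1 (fun he => hH (Subgroup.eq_top_of_card_eq H he))
    have := ih (Nat.card H) hlt rfl (hQ.to_subgroup H) c hc (by
      intro y hy
      apply Subtype.ext
      rw [hce]
      apply h (y : Q)
      rcases hy with hy | ⟨h2, hy⟩
      · left
        exact congrArg Subtype.val hy
      · right
        exact ⟨h2, congrArg Subtype.val hy⟩) ⟨x, hx⟩
    rw [← hce ⟨x, hx⟩]
    exact congrArg Subtype.val this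
  -- `[Q, b] = Q`
  set D : Subgroup Q := Subgroup.closure {y | ∃ x : Q, y = x⁻¹ * b x} with hD
  have hDtop : D = ⊤ := by
    by_contra hDne
    have hDinv : ∀ x ∈ D, b x ∈ D := by
      intro x hx
      have hle : D ≤ D.comap b.toMonoidHom := by
        rw [hD, Subgroup.closure_le]
        rintro _ ⟨x, rfl⟩
        show b (x⁻¹ * b x) ∈ D
        rw [map_mul, map_inv]
        exact Subgroup.subset_closure ⟨b x, rfl⟩
      exact hle hx
    have hfix := hprop D hDne hDinv
    exact hx₀ (fix_of_fix_div hQ b hb x₀ (hfix _ (Subgroup.subset_closure ⟨x₀, rfl⟩)))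
  -- every proper invariant normal subgroup is central
  obtain ⟨N, hNtop, hNinv, hNp, hNc⟩ := exists_proper_frattini hQ
  have hNfix := hprop N hNtop (hNinv b)
  have hNnorm : ∀ x : Q, ∀ n ∈ N, x * n * x⁻¹ ∈ N := by
    intro x n hn
    have := N.mul_mem (hNc x n) hn
    simpa [mul_assoc] using this
  have hNcen : ∀ n ∈ N, ∀ x : Q, x * n = n * x := by
    intro n hn
    have hle : D ≤ Subgroup.centralizer {n} := by
      rw [hD, Subgroup.closure_le]
      rintro _ ⟨x, rfl⟩
      rw [SetLike.mem_coe, Subgroup.mem_centralizer_singleton_iff]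
      have h1 : b (x * n * x⁻¹) = x * n * x⁻¹ := hNfix _ (hNnorm x n hn)
      rw [map_mul, map_mul, map_inv, hNfix n hn] at h1
      -- b x * n * (b x)⁻¹ = x * n * x⁻¹
      symm
      calc n * (x⁻¹ * b x) = x⁻¹ * (x * n * x⁻¹) * b x := by group
        _ = x⁻¹ * (b x * n * (b x)⁻¹) * b x := by rw [h1]
        _ = x⁻¹ * b x * n := by group
    intro x
    have hx : x ∈ D := by rw [hDtop]; trivial
    exact Subgroup.mem_centralizer_singleton_iff.1 (hle hx)
  -- conclude
  apply hx₀
  apply fix_of_fix_div hQ b hb x₀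
  apply h
  -- the element `x⁻¹ * b x`
  set y := b x₀ with hy
  set z := y⁻¹ * x₀ * y * x₀⁻¹ with hzdef
  have hzN : z ∈ N := by
    have := hNc y⁻¹ x₀
    rwa [inv_inv] at this
  have hyx : y * x₀⁻¹ = x₀⁻¹ * y * z := by rw [hzdef]; group
  have hyp : y ^ p = x₀ ^ p := by
    rw [hy, ← map_pow]
    exact hNfix _ (hNp x₀)
  have hzp : z ^ p = 1 := by
    have h1 := pow_mul_of_central_comm x₀⁻¹ y z hyx (hNcen z hzN y).symm p
    rw [← hNcen (y ^ p) (hNp y) x₀⁻¹] at h1
    have h2 : x₀⁻¹ * y ^ p * 1 = x₀⁻¹ * y ^ p * z ^ p := by rw [mul_one]; exact h1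
    exact (mul_left_cancel h2).symm
  have hform := mul_pow_of_central_comm x₀⁻¹ y z hyx (hNcen z hzN _).symm (hNcen z hzN y).symm
  rcases hp.out.eq_two_or_odd' with h2 | hodd
  · right
    refine ⟨h2, ?_⟩
    subst h2
    rw [hform 4]
    have h4 : y ^ 4 = x₀ ^ 4 := by
      calc y ^ 4 = (y ^ 2) ^ 2 := by rw [← pow_mul]
        _ = (x₀ ^ 2) ^ 2 := by rw [hyp]
        _ = x₀ ^ 4 := by rw [← pow_mul]
    have h6 : z ^ (4 * (4 - 1) / 2) = 1 := by
      show z ^ 6 = 1
      calc z ^ 6 = (z ^ 2) ^ 3 := by rw [← pow_mul]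
        _ = 1 := by rw [hzp, one_pow]
    rw [h4, h6, inv_pow, inv_mul_cancel, one_mul]
  · left
    rw [hform p]
    have h6 : z ^ (p * (p - 1) / 2) = 1 := by
      obtain ⟨k, hk⟩ := hodd
      have : p * (p - 1) / 2 = p * k := by
        rw [hk, Nat.add_sub_cancel, mul_comm 2 k, ← mul_assoc, Nat.mul_div_cancel _ (by norm_num)]
      rw [this, pow_mul, hzp, one_pow]
    rw [hyp, h6, inv_pow, inv_mul_cancel, one_mul]

/-- A `p'`-automorphism of a finite `p`-group that fixes every element of order `p`, and every element of order 4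
when `p = 2`, is trivial. -/
theorem mulAut_eq_one_of_fix_small {Q : Type*} [Group Q] [Finite Q] {p : ℕ} [Fact p.Prime]
    (hQ : IsPGroup p Q) (b : MulAut Q) (hb : (orderOf b).Coprime p)
    (h : ∀ x : Q, (x ^ p = 1 ∨ (p = 2 ∧ x ^ 4 = 1)) → b x = x) : b = 1 :=
  MulEquiv.ext (fix_of_fix_small _ rfl hQ b hb h)

/-- The same when `b` is only known to fix the small elements of a subgroup `D` containing all `x⁻¹ * b x`. -/
theorem mulAut_eq_one_of_fix_small_of_le {Q : Type*} [Group Q] [Finite Q] {p : ℕ} [Fact p.Prime]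
    (hQ : IsPGroup p Q) (b : MulAut Q) (hb : (orderOf b).Coprime p) (D : Subgroup Q)
    (hD : ∀ x : Q, x⁻¹ * b x ∈ D)
    (h : ∀ x ∈ D, (x ^ p = 1 ∨ (p = 2 ∧ x ^ 4 = 1)) → b x = x) : b = 1 := by
  have hinv : ∀ x ∈ D, b x ∈ D := by
    intro x hx
    have := D.mul_mem hx (hD x)
    simpa using this
  obtain ⟨c, hce, hcd⟩ := exists_restrict b D hinv
  have hc1 : c = 1 := by
    apply mulAut_eq_one_of_fix_small (hQ.to_subgroup D) c (Nat.Coprime.coprime_dvd_left hcd hb)
    intro y hy
    apply Subtype.ext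
    rw [hce]
    apply h (y : Q) y.2
    rcases hy with hy | ⟨h2, hy⟩
    · left
      exact congrArg Subtype.val hy
    · right
      exact ⟨h2, congrArg Subtype.val hy⟩
  apply MulEquiv.ext
  intro x
  apply fix_of_fix_div hQ b hb x
  have := hce ⟨_, hD x⟩
  rw [hc1] at this
  exact this.symm

end Cfsg.Agent.H794
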