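import Cfsg.Agent.ClassicalGeometry.PSUAutSemi
import Cfsg.Agent.H800.Sp.Base_m3
import Cfsg.Agent.FastGrp
import Cfsg.Agent.Prune
set_option linter.all false
prune_inst 0x7f00000000000000000000000000000000000000000000000000000000000000000000000000000000000000000000000000000000000000000000000000000000000000000000000000000000000000003fffffffffffffffffffffffffffbeffbdffffffff
open scoped Cfsg.Agent.FastGrp

/-!
# The Sylow `p`-subgroups of `PSU₃(q)`, `p ∣ q`, are not abelian
-/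

set_option autoImplicit false

namespace Cfsg.Agent.H794.PsuNotAb

open Cfsg Subgroup Cfsg.Agent.ClassicalGeometry.PSUAutBasic Cfsg.Agent.ClassicalGeometry.PSUAutSylow
  Cfsg.Agent.ClassicalGeometry.PSUAutPhi Cfsg.Agent.ClassicalGeometry.PSUAutSemi
  Cfsg.Agent.LieClassical.HermSiegel Cfsg.Agent.LieClassical.HermBasic Cfsg.Agent.LieClassical.HermGen

variable {F : Type*} [Field F] [Fintype F] {q p n : ℕ} [hp : Fact p.Prime] [CharP F p]

theorem exists_pair (hF : Fintype.card F = q ^ 2) (hn : 3 ≤ n) :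
    ∃ P : Subgroup (PSU n F q), IsPGroup p P ∧ ∃ a ∈ P, ∃ b ∈ P, a * b ≠ b * a := by
  obtain ⟨e, f, H⟩ := exists_frame (n := n) hF (by omega)
  have he0 : e ≠ 0 := by
    rintro rfl
    have := H.ef
    simp [hermForm] at this
  have hP := isPGroup_siegG hF p H.ee
  obtain ⟨w, hw, hw0⟩ : ∃ w ∈ coordSub F n (n - 2), w ≠ 0 := by
    refine ⟨bas F n ⟨0, by omega⟩, (bas F n ⟨0, by omega⟩).2, ?_⟩
    intro h0
    exact bas_ne_zero (F := F) (i := ⟨0, by omega⟩) (show (0 : ℕ) < n - 2 by omega) (Subtype.ext h0)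
  obtain ⟨μ, h⟩ := exists_isSiegel hF H hw
  have hs : siegel hF e w μ h ∈ siegG hF e H.ee := ⟨w, μ, h, rfl⟩
  obtain ⟨s, hs', hne⟩ : ∃ s ∈ siegG hF e H.ee, siegel hF e w μ h * s * (siegel hF e w μ h)⁻¹ ≠ s := by
    by_contra hcon
    push Not at hcon
    have h1 := mem_transvG_of_commute hF he0 H.ee (act_siegel_self hF h) hcon
    obtain ⟨ν, hν, h2⟩ := mem_transvG.1 h1
    exact hw0 (siegel_inj hF H hw (zero_mem _) h (isSiegel_zero H.ee hν) h2).1
  refine ⟨(siegG hF e H.ee).map (pr n F q), hP.map _, pr n F q (siegel hF e w μ h), mem_map_of_mem _ hs,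
    pr n F q s, mem_map_of_mem _ hs', ?_⟩
  intro hc
  apply hne
  rw [← map_mul, ← map_mul] at hc
  have pel : ∀ x ∈ siegG hF e H.ee, ∃ k, x ^ p ^ k = 1 := by
    intro x hx
    obtain ⟨k, hk⟩ := hP ⟨x, hx⟩
    exact ⟨k, congrArg Subtype.val hk⟩
  obtain ⟨k, hk⟩ := pel _ (mul_mem hs hs')
  obtain ⟨l, hl⟩ := pel _ (mul_mem hs' hs)
  rw [eq_of_pr_eq hF hn hk hl hc]
  group

theorem notAb (hF : Fintype.card F = q ^ 2) (hn : 3 ≤ n) : Cfsg.Agent.H800.Sp.NotAb p (PSU n F q) := by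
  have : Finite (PSU n F q) := Quotient.finite _
  obtain ⟨P, hP, a, ha, b, hb, hab⟩ := exists_pair (p := p) hF hn
  exact Cfsg.Agent.H800.Sp.notAb_of_pair P hP ha hb hab

end Cfsg.Agent.H794.PsuNotAb

private theorem dce_068deb62cd79 : _root_.True := by
  try have : _root_.True := by simp only [_root_.Cfsg.hermForm.eq_1]
  try have : _root_.True := by simp only [_root_.Cfsg.Agent.ClassicalGeometry.PSUAutBasic.siegG.congr_simp]
  exact _root_.True.intro
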