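import Cfsg.Agent.H792.SpHeis_m3
import Cfsg.Agent.ClosedTwo.LieTwo
import Cfsg.Agent.FixBN.ReeSplit
import Cfsg.Agent.KFacts.RgdLieCharP
import Cfsg.Agent.FastGrp
import Cfsg.Agent.Prune
set_option linter.all false

section
prune_inst 0x7f00000000000000000000000000000000000000000000000000000000000000000000000000000000000000000000000000000000000000000000000000000000000000000000000000000000000000003fffffffffffffffffffffffffffbeffbdffffffff

-- part: H794/DefClosed
section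
set_option linter.all false
open scoped Cfsg.Agent.FastGrp

/-!
# Strongly closed subgroups in simple groups of Lie type in the defining characteristic

* `TI.of_one` : one Sylow subgroup suffices;
* `full_or_ti_of_filt` : `HasFilt p G` (all families but Suzuki, Ree, `²F₄`): `Full p G` or `TI p G`;
* `ti_of_split` : split (B,N)-pairs of rank one; `ti_ree`;
* `full_or_ti` : all simple groups of Lie type in characteristic `p ≠ 2`.
-/

set_option autoImplicit false
set_option linter.unusedSectionVars false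

namespace Cfsg.Agent.H794.DefClosed

open Cfsg Subgroup

/-- One Sylow subgroup suffices. -/
theorem TI.of_one {p : ℕ} [Fact p.Prime] {G : Type*} [Group G] [Finite G] (Q : Sylow p G)
    (h : ∀ x ∈ (Q : Subgroup G), x ≠ 1 → ∀ g : G, g * x * g⁻¹ ∈ (Q : Subgroup G) →
      g ∈ normalizer ((Q : Subgroup G) : Set G)) : TI p G := by
  intro S x hx hx1 g hg
  obtain ⟨k, hk⟩ := MulAction.exists_smul_eq G S Q
  have hkS : ∀ y, y ∈ (S : Subgroup G) ↔ k * y * k⁻¹ ∈ (Q : Subgroup G) := by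
    intro y
    rw [← hk, Sylow.coe_subgroup_smul]
    constructor
    · intro hy
      exact ⟨y, hy, rfl⟩
    · rintro ⟨z, hz, hz'⟩
      have : z = y := mul_left_cancel (mul_right_cancel (show k * z * k⁻¹ = k * y * k⁻¹ from hz'))
      rw [← this]
      exact hz
  have h1 := h _ ((hkS x).1 hx) (fun h0 => hx1 (by
    have : x = k⁻¹ * (k * x * k⁻¹) * k := by group
    rw [this, h0]; group)) (k * g * k⁻¹) (by
    have := (hkS _).1 hg
    rwa [show k * g * k⁻¹ * (k * x * k⁻¹) * (k * g * k⁻¹)⁻¹ = k * (g * x * g⁻¹) * k⁻¹ by group])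
  rw [mem_normalizer_iff] at h1 ⊢
  intro y
  rw [hkS, hkS]
  have h2 := h1 (k * y * k⁻¹)
  rwa [show k * g * k⁻¹ * (k * y * k⁻¹) * (k * g * k⁻¹)⁻¹ = k * (g * y * g⁻¹) * k⁻¹ by group] at h2

section Filt

open CoxeterSystem Cfsg.Agent.ChevalleyStructure.CoxeterGeom Cfsg.Agent.Tits.Roots
  Cfsg.Agent.Nodes.Reps Cfsg.Agent.Nodes.BNOf
  Cfsg.Agent.Nodes.Bruhat Cfsg.Agent.Nodes.OppDec Cfsg.Agent.Nodes.LeviDec Cfsg.Agent.Nodes.NormX
  Cfsg.Agent.KFacts.RgdPar Cfsg.Agent.KFacts.RgdCent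
  Cfsg.Agent.KFacts.RgdEx Cfsg.Agent.KFacts.RgdVJ Cfsg.Agent.KFacts.RgdCharP
  Cfsg.Agent.KFacts.RgdBorelTits Cfsg.Agent.KFacts.RgdFilt
  Cfsg.Agent.ClosedTwo Cfsg.Agent.ClosedTwo.Rgd Cfsg.Agent.ClosedTwo.Filt

variable {I W Y : Type*} [Fintype I] [DecidableEq I] [Group W] [Group Y] {M : CoxeterMatrix I}
  {cs : CoxeterSystem M W} {A : I → I → ℤ} {h : IsCartan M A} {p : ℕ} {T : Subgroup Y} {n : I → Y}
  {X : (I → ℤ) → Subgroup Y}

/-- Root group data of rank at least two. -/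
theorem full_of_rgd [Finite W] [Finite Y] [IsSimpleGroup Y] [Nontrivial I] [Fact p.Prime] (R : RGD cs h p T n X)
    (hconn : Conn M) (hc : ∃ a b : Y, a * b ≠ b * a) (hG : RGD.Sup X {x | IsRoot cs h x} = ⊤) : Full p Y := by
  intro S D hD
  by_cases hD1 : D = ⊥
  · exact Or.inl hD1
  right
  have hGG : GG cs h T X = ⊤ := by
    rw [eq_top_iff, ← hG]
    exact le_sup_right
  obtain ⟨S', hS'⟩ := R.isPGroup_Upos.exists_le_sylow
  have hSU : (S' : Subgroup Y) = UU cs h X :=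
    Cfsg.Agent.Nodes.NormalForm.eq_U_of_isPGroup R S'.2 hS' (by rw [hGG]; exact le_top)
  obtain ⟨g, hg⟩ := MulAction.exists_smul_eq Y S S'
  have hgS : (S : Subgroup Y).map (MulAut.conj g).toMonoidHom = UU cs h X := by
    rw [← hSU, ← hg]
    rfl
  have h1 := closed_map (MulAut.conj g) hD
  rw [hgS] at h1
  have h2 : D.map (MulAut.conj g).toMonoidHom = UU cs h X := by
    refine eq_U R ⟨h1.1, fun x hx k hk => h1.2 x hx k hk⟩ hconn hc hG fun h0 => hD1 ?_
    exact (Subgroup.map_eq_bot_iff_of_injective _ (MulAut.conj g).injective).1 h0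
  rw [← hgS] at h2
  exact Subgroup.map_injective (MulAut.conj g).injective h2

/-- Root group data of rank one. -/
theorem ti_of_rgd [Finite W] [Finite Y] [Subsingleton I] [Nonempty I] [Fact p.Prime] (R : RGD cs h p T n X)
    (hGG : GG cs h T X = ⊤) : TI p Y := by
  obtain ⟨S', hS'⟩ := R.isPGroup_Upos.exists_le_sylow
  have hSU : (S' : Subgroup Y) = UU cs h X :=
    Cfsg.Agent.Nodes.NormalForm.eq_U_of_isPGroup R S'.2 hS' (by rw [hGG]; exact le_top)
  refine TI.of_one S' fun x hx hx1 g hg => ?_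
  rw [hSU] at hx hg
  have h1 := mem_B_rank_one R hGG hx hx1 hg
  have h2 := R.B_le_normalizer_U h1
  rw [hSU]
  exact h2

theorem full_or_ti_of_filt {G : Type*} [Group G] [Finite G] [IsSimpleGroup G] [Fact p.Prime] (hG : HasFilt p G)
    (hc : ∃ a b : G, a * b ≠ b * a) : Full p G ∨ TI p G := by
  obtain ⟨l, M, A, h, T, n, X, R, hW, hBT, hGG, hN, hconn, hX, hl⟩ := hG.data hc
  by_cases hl1 : l = 1
  · subst hl1
    exact Or.inr (ti_of_rgd R hGG)
  · left
    have : Nontrivial (Fin l) := Fin.nontrivial_iff_two_le.2 (by omega)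
    exact full_of_rgd R hconn hc hX

end Filt

section Split

open Cfsg.Agent.FixBN Cfsg.Agent.Schreier.BNSch

variable {K : Type*} [Group K] [Finite K] {P : Cfsg.BNPair K} {p : ℕ} {U : Subgroup K}

/-- `U` is a Sylow subgroup. -/
theorem eq_of_isPGroup [hp : Fact p.Prime] (h : FixBN.Split P p U) {Q : Subgroup K} (hQ : IsPGroup p Q)
    (hU : U ≤ Q) : Q = U := by
  by_contra hne
  have hlt : U < Q := lt_of_le_of_ne hU fun h => hne h.symm
  -- normalisers grow
  have : Finite Q := inferInstance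
  have hnil : Group.IsNilpotent Q := hQ.isNilpotent
  have h1 : U.subgroupOf Q < normalizer ((U.subgroupOf Q : Subgroup Q) : Set Q) := by
    apply Group.normalizerCondition_of_isNilpotent
    rw [lt_top_iff_ne_top]
    intro h2
    exact hlt.not_ge (subgroupOf_eq_top.1 h2)
  obtain ⟨x, hx, hx'⟩ := SetLike.exists_of_lt h1
  have h3 : (x : K) ∈ normalizer (U : Set K) := by
    rw [mem_normalizer_iff] at hx ⊢
    have key : ∀ z : Q, z ∈ normalizer ((U.subgroupOf Q : Subgroup Q) : Set Q) → ∀ y ∈ U,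
        (z : K) * y * (z : K)⁻¹ ∈ U := by
      intro z hz y hy
      exact (mem_normalizer_iff.1 hz ⟨y, hU hy⟩).1 hy
    intro y
    refine ⟨key x (mem_normalizer_iff.2 hx) y, fun hy => ?_⟩
    have h4 := key x⁻¹ (inv_mem (mem_normalizer_iff.2 hx)) _ hy
    have h5 : ((x⁻¹ : Q) : K) = (x : K)⁻¹ := rfl
    rwa [h5, show (x : K)⁻¹ * ((x : K) * y * (x : K)⁻¹) * (x : K)⁻¹⁻¹ = y by group] at h4
  rw [h.normalizer_eq] at h3
  obtain ⟨k, hk⟩ := hQ x
  have h4 : (x : K) ^ p ^ k = 1 := congrArg Subtype.val hk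
  exact hx' (h.mem_of_pow h3 h4)

/-- Split (B,N)-pairs of rank one. -/
theorem ti_of_split [hp : Fact p.Prime] (h : FixBN.Split P p U) {s : K} (hS : P.S = {s}) : TI p K := by
  obtain ⟨Q, hQ⟩ := h.isP.exists_le_sylow
  have hQU : (Q : Subgroup K) = U := eq_of_isPGroup h Q.isPGroup' hQ
  have hs : s ∈ P.S := by rw [hS]; exact Set.mem_singleton s
  have htop : P.parabolic {s} = ⊤ := by
    rw [eq_top_iff, ← P.sup_eq_top]
    unfold BNPair.parabolic
    refine sup_le le_sup_left ?_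
    rw [← P.closure_sup, hS]
    exact sup_le le_sup_right (inf_le_left.trans le_sup_left)
  obtain ⟨V, hV⟩ := h.node s hs
  have hV1 : V = ⊥ := by
    have hsinv : ∀ v ∈ V, s * v * s⁻¹ ∈ V := by
      intro v hv
      have h1 := hV.conj_s v hv
      have h2 : s * s ∈ P.B := P.sq_mem s hs
      have h3 := hV.conj_B _ h2 _ h1
      have h4 : s * s * (s⁻¹ * v * s) * (s * s)⁻¹ = s * v * s⁻¹ := by group
      rwa [h4] at h3
    have hn : ∀ g : K, ∀ v ∈ V, g * v * g⁻¹ ∈ V := by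
      intro g v hv
      rcases mem_parabolic_singleton P hs (g := g) (by rw [htop]; trivial) with hg | ⟨b, hb, b', hb', rfl⟩
      · exact hV.conj_B g hg v hv
      · have h1 := hV.conj_B b hb _ (hsinv _ (hV.conj_B b' hb' v hv))
        rwa [show b * (s * (b' * v * b'⁻¹) * s⁻¹) * b⁻¹ = b * s * b' * v * (b * s * b')⁻¹ by group] at h1
    have hnor : V.Normal := ⟨fun v hv g => hn g v hv⟩
    have h1 : V ≤ P.B.normalCore := by
      rw [Subgroup.normal_le_normalCore]
      exact hV.le.trans h.le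
    rw [h.core] at h1
    exact le_bot_iff.1 h1
  refine TI.of_one Q fun x hx hx1 g hg => ?_
  rw [hQU] at hx hg
  have hnorm : normalizer ((Q : Subgroup K) : Set K) = P.B := by
    rw [hQU]
    exact h.normalizer_eq
  rw [hnorm]
  rcases mem_parabolic_singleton P hs (g := g) (by rw [htop]; trivial) with hgB | ⟨b, hb, b', hb', rfl⟩
  · exact hgB
  · exfalso
    have h1 : b' * x * b'⁻¹ ∈ U := h.norm b' hb' x hx
    have h2 : s * (b' * x * b'⁻¹) * s⁻¹ ∈ U := by
      have h3 := h.norm b⁻¹ (inv_mem hb) _ hg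
      rwa [show b⁻¹ * (b * s * b' * x * (b * s * b')⁻¹) * b⁻¹⁻¹ = s * (b' * x * b'⁻¹) * s⁻¹ by group] at h3
    obtain ⟨y, hy⟩ : ∃ y, y = s * (b' * x * b'⁻¹) * s⁻¹ := ⟨_, rfl⟩
    rw [← hy] at h2
    have h3 : y ∈ V := hV.stab y h2 (by
      rw [hy, show s⁻¹ * (s * (b' * x * b'⁻¹) * s⁻¹) * s = b' * x * b'⁻¹ by group]
      exact h.le h1)
    rw [hV1, mem_bot] at h3
    apply hx1
    have h4 : x = b'⁻¹ * (s⁻¹ * y * s) * b' := by rw [hy]; group
    rw [h4, h3]
    group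

theorem TI.congr {p : ℕ} [Fact p.Prime] {G H : Type*} [Group G] [Group H] [Finite G] (e : G ≃* H)
    (h : TI p G) : TI p H := by
  have : Finite H := Finite.of_equiv G e.toEquiv
  obtain ⟨S⟩ : Nonempty (Sylow p G) := inferInstance
  have hS : IsPGroup p ((S : Subgroup G).map e.toMonoidHom) := S.isPGroup'.map _
  obtain ⟨Q, hQ⟩ := hS.exists_le_sylow
  have hQS : (Q : Subgroup H) = (S : Subgroup G).map e.toMonoidHom := by
    symm
    apply Subgroup.eq_of_le_of_card_ge hQ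
    have h1 := Sylow.card_eq_multiplicity S
    have h2 := Sylow.card_eq_multiplicity Q
    have h3 : Nat.card ((S : Subgroup G).map e.toMonoidHom) = Nat.card (S : Subgroup G) :=
      Nat.card_congr ((S : Subgroup G).equivMapOfInjective _ e.injective).toEquiv.symm
    rw [h3]
    change Nat.card Q ≤ Nat.card S
    rw [h1, h2, Nat.card_congr e.toEquiv]
  refine TI.of_one Q fun x hx hx1 g hg => ?_
  rw [hQS] at hx hg ⊢
  obtain ⟨y, hy, rfl⟩ := hx
  have hy1 : y ≠ 1 := by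
    rintro rfl
    exact hx1 (map_one _)
  obtain ⟨z, hz, hz'⟩ := hg
  have h1 : e.symm g * y * (e.symm g)⁻¹ ∈ (S : Subgroup G) := by
    have : e.symm g * y * (e.symm g)⁻¹ = z := by
      apply e.injective
      have h2 : e z = g * e y * g⁻¹ := hz'
      rw [h2]
      simp
    rw [this]
    exact hz
  have h2 := h S y hy hy1 _ h1
  rw [mem_normalizer_iff]
  intro w
  have h3 := mem_normalizer_iff.1 h2 (e.symm w)
  have h4 : ∀ w : H, w ∈ (S : Subgroup G).map e.toMonoidHom ↔ e.symm w ∈ (S : Subgroup G) := by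
    intro w
    constructor
    · rintro ⟨v, hv, rfl⟩
      change e.symm (e v) ∈ _
      rwa [e.symm_apply_apply]
    · intro hw
      exact ⟨_, hw, e.apply_symm_apply w⟩
  change w ∈ (S : Subgroup G).map e.toMonoidHom ↔ g * w * g⁻¹ ∈ (S : Subgroup G).map e.toMonoidHom
  rw [h4, h4, map_mul, map_mul, map_inv]
  exact h3

theorem ti_ree {G : Type*} [Group G] [Finite G] (h : Cfsg.Lie.IsoRee G) : TI 3 G := by
  have : Fact (Nat.Prime 3) := ⟨Nat.prime_three⟩
  obtain ⟨K, _, _, m, hm, hK, ⟨e⟩⟩ := h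
  have : Finite ↥(Cfsg.Lie.twistedG2 K (3 ^ m)) := Finite.of_equiv G e.toEquiv
  obtain ⟨U, h, n, D⟩ := Cfsg.Agent.ChevalleyStructure.Ree.Data.exists_data hK
  exact TI.congr e.symm (ti_of_split (ReeSplit.split hK D) (s := n) rfl)

end Split

/-- **Strongly closed subgroups in simple groups of Lie type in odd defining characteristic.** -/
theorem full_or_ti {p : ℕ} [hp : Fact p.Prime] (hp2 : p ≠ 2) {G : Type*} [Group G] [Finite G] [IsSimpleGroup G]
    (hG : ¬ IsMulCommutative G) (h : IsLieTypeChar p G) : Full p G ∨ TI p G := by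
  have hc : ∃ a b : G, a * b ≠ b * a := by
    by_contra hcon
    push Not at hcon
    exact hG ⟨⟨hcon⟩⟩
  have key : Cfsg.Agent.KFacts.RgdLieCharP.IsLieFilt p G → Full p G ∨ TI p G := fun h =>
    full_or_ti_of_filt (KFacts.RgdLieCharP.hasFilt_of_lie h) hc
  rcases h with h | h | h | h | h | h | h | h | h | h | h
  · exact key (Or.inl h)
  · exact key (Or.inr (Or.inl h))
  · exact key (Or.inr (Or.inr (Or.inl h)))
  · exact key (Or.inr (Or.inr (Or.inr (Or.inl h))))
  · exact key (Or.inr (Or.inr (Or.inr (Or.inr (Or.inl h)))))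
  · exact key (Or.inr (Or.inr (Or.inr (Or.inr (Or.inr (Or.inl h))))))
  · exact key (Or.inr (Or.inr (Or.inr (Or.inr (Or.inr (Or.inr (Or.inl h)))))))
  · exact key (Or.inr (Or.inr (Or.inr (Or.inr (Or.inr (Or.inr (Or.inr h)))))))
  · exact absurd h.1 hp2
  · exact absurd h.1 hp2
  · obtain ⟨rfl, h⟩ := h
    exact Or.inr (ti_ree h)

end Cfsg.Agent.H794.DefClosed
end

-- part: H794/DefRank
section
set_option linter.all false
open scoped Cfsg.Agent.FastGrp

/-!
# The simple groups of Lie type with root group data of rank at least two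

* `HasRk2 p G` : a root group datum of rank `≥ 2`; `full_of_rk2`;
* `rk2_or` : `IsLieTypeChar p G`, `p ≠ 2`: `HasRk2 p G` or `G ≅ PSL₂(F)`, `PSU₃(q)`, `²G₂(q)`.
-/

set_option autoImplicit false
set_option linter.unusedSectionVars false

namespace Cfsg.Agent.H794.DefRank

open Cfsg Cfsg.Agent.ChevalleyStructure.CoxeterGeom Cfsg.Agent.Tits.Roots
open Cfsg.Agent.Nodes.Comb Cfsg.Agent.Nodes.Reps Cfsg.Agent.Nodes.WittRoot Cfsg.Agent.Nodes.BNOf
open Cfsg.Agent.Nodes.RGDLib Cfsg.Agent.Nodes.WittAll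
open Cfsg.Agent.TitsThree Cfsg.Agent.TitsThree.Siegel Cfsg.Agent.TitsThree.WittFrame
  Cfsg.Agent.TitsThree.WittWeyl Cfsg.Agent.TitsThree.FrameCN
open Cfsg.Agent.KFacts.RgdBorelTits Cfsg.Agent.KFacts.RgdFilt Cfsg.Agent.KFacts.RgdFiltWitt
open Cfsg.Agent.KFacts Cfsg.Agent.H794 Cfsg.Agent.H794.DefClosed

universe u

/-- a root group datum of rank at least two -/
def HasRk2 (p : ℕ) (G : Type*) [Group G] : Prop :=
  ∃ (l : ℕ) (M : CoxeterMatrix (Fin l)) (A : Fin l → Fin l → ℤ) (h : IsCartan M A) (T : Subgroup G) (n : Fin l → G)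
    (X : (Fin l → ℤ) → Subgroup G) (_ : RGD M.toCoxeterSystem h p T n X),
    2 ≤ l ∧ Finite M.Group ∧ Nodes.RGDLib.G1 M.toCoxeterSystem h X = ⊤

theorem HasRk2.of_equiv {p : ℕ} {G H : Type*} [Group G] [Group H] [Finite G] (e : G ≃* H) (hG : HasRk2 p G) :
    HasRk2 p H := by
  obtain ⟨l, M, A, h, T, n, X, R, hl, hW, hX⟩ := hG
  refine ⟨l, M, A, h, T.map e.toMonoidHom, fun i => e (n i), fun x => (X x).map e.toMonoidHom,
    Nodes.RGDLib.rgd_map_of_injective R e.toMonoidHom e.injective, hl, hW, ?_⟩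
  have h1 : (Nodes.RGDLib.G1 M.toCoxeterSystem h X).map e.toMonoidHom =
      Nodes.RGDLib.G1 M.toCoxeterSystem h (fun x => (X x).map e.toMonoidHom) := by
    unfold Nodes.RGDLib.G1 RGD.Sup
    rw [Subgroup.map_iSup]
  rw [← h1, hX, Subgroup.map_top_of_surjective _ e.surjective]

theorem full_of_rk2 {p : ℕ} [Fact p.Prime] {G : Type*} [Group G] [Finite G] [IsSimpleGroup G]
    (hc : ∃ a b : G, a * b ≠ b * a) (hG : HasRk2 p G) : Full p G := by
  obtain ⟨l, M, A, h, T, n, X, R, hl, hW, hX⟩ := hG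
  have hc' := RgdLieCharP.center_eq_bot hc
  have : Nontrivial (Fin l) := Fin.nontrivial_iff_two_le.2 hl
  exact full_of_rgd R (RgdLieCharP.conn_of_simple R hX hc') hc hX

theorem rk2_of_sl {p : ℕ} {G : Type*} [Group G] {l : ℕ} {M : CoxeterMatrix (Fin l)} {A : Fin l → Fin l → ℤ}
    {h : IsCartan M A} {T : Subgroup G} {n : Fin l → G} {X : (Fin l → ℤ) → Subgroup G} (hl : 2 ≤ l)
    (hW : Finite M.Group) (R : RGD M.toCoxeterSystem h p T n X) (hX : G1 M.toCoxeterSystem h X = ⊤) : HasRk2 p G :=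
  ⟨l, M, A, h, T, n, X, R, hl, hW, hX⟩

section TypeC

open Cfsg.Agent.Nodes.TypeC

variable {F : Type*} [Field F] {V : Type*} [AddCommGroup V] [Module F V] {H : HForm F V} {n : ℕ}
  {Fr : Frame H (Fin n)} {K : Type*} [Group K] (M : Model Fr K) {p : ℕ}

theorem rk2_C (hA : AmbT Fr p M.I) [Finite V] [Fact p.Prime] [CharP F p] {p0 : Fr.Adm} (hp0 : p0.c ≠ 0)
    (hn : 2 ≤ n) : HasRk2 p K := by
  have : Finite (V ≃ₗ[F] V) := Finite.of_injective (fun g : V ≃ₗ[F] V => (g : V → V)) DFunLike.coe_injective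
  exact ⟨n, CoxeterMatrix.B n, A n, isCartan n, _, _, _, rgdC_model M hA hp0 _, hn,
    finite_W (CoxeterMatrix.B n).toCoxeterSystem, Nodes.WittModel.G1_eq_top _ (by omega) _⟩

end TypeC

theorem rk2_PSL {F : Type*} [Field F] [Finite F] (n : ℕ) (hn : 2 ≤ n) {p : ℕ} [Fact p.Prime] [CharP F p] :
    HasRk2 p (Matrix.ProjectiveSpecialLinearGroup (Fin (n + 1)) F) := by
  have hW : Finite (Cfsg.Agent.LieRecognition.BNCox.cA n).Group :=
    Nodes.RootsA.finite_W (Cfsg.Agent.LieRecognition.BNCox.cA n).toCoxeterSystem (Nodes.RootsA.isCartan n)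
  exact rk2_of_sl (h := Nodes.RootsA.isCartan n) hn hW (Nodes.RGDTypeA.rgd_psl _ _)
    (Nodes.RGDTypeA.G1_psl_eq_top _ _)

open Cfsg.Agent.Nodes.WittU Cfsg.Agent.Nodes.WittInst

theorem rk2_PSU {F : Type*} [Field F] [Fintype F] {q N : ℕ} (hF : Fintype.card F = q ^ 2) (hN : 4 ≤ N) {p : ℕ}
    [Fact p.Prime] [CharP F p] : HasRk2 p (PSU N F q) := by
  obtain ⟨m, hm⟩ : ∃ m, N = 2 * m ∨ N = 2 * m + 1 := ⟨N / 2, by omega⟩
  obtain ⟨W, -⟩ := exists_wframe hF hm
  obtain ⟨p0, hp0, -⟩ := exists_adm hF W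
  exact rk2_C (KInstU.model hF (by omega) W) (AmbT.of_amb (amb_U hF W) p) hp0 (by omega)

theorem rk2_PSp {F : Type*} [Field F] [Finite F] {m : ℕ} (hm : 2 ≤ m) {p : ℕ}
    [Fact p.Prime] [CharP F p] : HasRk2 p (PSp m F) :=
  rk2_C (KInstSp.model m F) (AmbT.of_amb amb_Sp p) (p0 := SpIdent.adm 1) one_ne_zero hm

section Orthogonal

open QuadraticMap
open Cfsg.Agent.LieClassical Cfsg.Agent.LieClassical.OrthCore Cfsg.Agent.LieClassical.OrthTrans
open Cfsg.Agent.LieClassical.OrthSimple Cfsg.Agent.LieClassical.OrthFinite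
open Cfsg.Agent.LieClassical.OrthForms
open Cfsg.Agent.TitsThree.WBridge Cfsg.Agent.TitsThree.KSideO Cfsg.Agent.TitsThree.StdData

variable {F : Type*} [Field F] {m : ℕ}

theorem rk2_PO_odd [Finite F] (h2 : (2 : F) ≠ 0) (hm : 2 ≤ m) {p : ℕ} [Fact p.Prime] [CharP F p] :
    HasRk2 p (Cfsg.POmega F (Cfsg.quadFormOdd m F)) := by
  rw [← coe_oddForm]
  have hG : _root_.Cfsg.Agent.LieClassical.OrthTrans.Good (oddForm m F) := by
    apply good_of_finite (nondeg_oddForm m F h2)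
    rw [Module.finrank_fintype_fun_eq_card, Fintype.card_sum, Fintype.card_sum, Fintype.card_fin,
      Fintype.card_unit]
    omega
  have hp : ((embOdd m F).ngt ⟨1, -1 ^ 2, rfl⟩).c ≠ 0 := by
    change (1 : F)⁻¹ * (-1 ^ 2) ≠ 0
    simp
  exact rk2_C (model (wodd m F) hG ⟨_, hp⟩) (AmbT.of_amb (amb_O_of_two _ h2) p) hp (by omega)

theorem rk2_PO_minus [Finite F] (a b : F)
    (hab : ∀ z₁ z₂ : F, z₁ ^ 2 + a * z₁ * z₂ + b * z₂ ^ 2 = 0 → z₁ = 0 ∧ z₂ = 0)
    (hm : 2 ≤ m) {p : ℕ} [Fact p.Prime] [CharP F p] :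
    HasRk2 p (Cfsg.POmega F (Cfsg.quadFormMinus m F a b)) := by
  rw [← coe_minusForm]
  have hG : _root_.Cfsg.Agent.LieClassical.OrthTrans.Good (minusForm m F a b) := by
    apply good_of_finite (nondeg_minusForm m F a b hab)
    rw [Module.finrank_fintype_fun_eq_card, Fintype.card_sum, Fintype.card_sum, Fintype.card_fin,
      Fintype.card_fin]
    omega
  have hp : ((embMinus m F a b hab).ngt ⟨(1, 0), -nf a b (1, 0), rfl⟩).c ≠ 0 := by
    change (1 : F)⁻¹ * (-nf a b (1, 0)) ≠ 0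
    simp [nf]
  have hA : AmbT (toFrame (wminus m F a b hab)) p (E (minusForm m F a b)) := by
    by_cases h2 : (2 : F) = 0
    · have hp2 : p = 2 := by
        have h3 : CharP F 2 := CharTwo.of_one_ne_zero_of_two_eq_zero one_ne_zero h2
        exact CharP.eq F ‹CharP F p› h3
      subst hp2
      exact ambT_O _ fun g hg hg2 hb => fixp_minus a b hab h2 hm hG hg hg2 hb
    · exact AmbT.of_amb (amb_O_of_two _ h2) p
  exact rk2_C (model (wminus m F a b hab) hG ⟨_, hp⟩) hA hp (by omega)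

theorem rk2_PO_plus [Finite F] (n : ℕ) {p : ℕ} [Fact p.Prime] [CharP F p] :
    HasRk2 p (Cfsg.POmega F (Cfsg.quadFormPlus (n + 3) F)) := by
  rw [← coe_plusForm]
  have hG : _root_.Cfsg.Agent.LieClassical.OrthTrans.Good (plusForm (n + 3) F) := by
    apply good_of_finite (nondeg_plusForm (n + 3) F)
    rw [Module.finrank_fintype_fun_eq_card, Fintype.card_sum, Fintype.card_fin]
    omega
  exact rk2_of_sl (by omega) (Nodes.TypeD.finite_W (Nodes.TypeD.M (n + 1)).toCoxeterSystem)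
    (rgdD_model (wplus (n + 3) F) hG (amb_plus _) (adm_plus _) _)
    (G1D_eq_top (wplus (n + 3) F) (toPOmega hG) (toPOmega_surjective hG) (adm_plus _) _)

end Orthogonal

/-! ### exceptional groups -/

section Exc

open CoxeterSystem Cfsg.Agent.Tits.Core Cfsg.Agent.Tits.RootComb
open Cfsg.Lie Cfsg.Agent.ChevalleyStructure Cfsg.Agent.ChevalleyStructure.Elts
  Cfsg.Agent.ChevalleyStructure.RootVec Cfsg.Agent.ChevalleyStructure.RootVecTab
  Cfsg.Agent.ChevalleyStructure.NPerm Cfsg.Agent.ChevalleyStructure.CoxeterGeomTypes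
open Cfsg.Agent.Nodes Cfsg.Agent.Nodes.RGDChev

theorem rk2_group {D : ChevalleyDatum} {l : ℕ} {M : CoxeterMatrix (Fin l)} (hp : IsType D l M) (hl : 2 ≤ l)
    (K : Type u) [Field K] [Finite K] (p : ℕ) [CharP K p] : HasRk2 p ↥(D.group K) := by
  have : Fact p.Prime := ⟨CharP.char_is_prime K p⟩
  exact ⟨l, M, cartanOf D l, hp.isCartan, _, _, _, rgd (K := K) hp M.toCoxeterSystem p, hl,
    finite_W hp M.toCoxeterSystem, G1_eq_top hp _⟩

theorem rk2_of_exceptional {p : ℕ} {G : Type*} [Group G] (hG : IsExceptionalChevChar p G) : HasRk2 p G := by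
  obtain ⟨F, _, _, _, ⟨-, ⟨e⟩⟩ | ⟨⟨e⟩⟩ | ⟨⟨e⟩⟩ | ⟨⟨e⟩⟩ | ⟨⟨e⟩⟩⟩ := hG
  · exact (rk2_group (l := 2) (M := CoxeterMatrix.G₂) (by simp [IsType, typeList]) le_rfl F p).of_equiv e.symm
  · exact (rk2_group (l := 4) (M := CoxeterMatrix.F₄) (by simp [IsType, typeList]) (by norm_num) F p).of_equiv e.symm
  · exact (rk2_group (l := 6) (M := CoxeterMatrix.E₆) (by simp [IsType, typeList]) (by norm_num) F p).of_equiv e.symm
  · exact (rk2_group (l := 7) (M := CoxeterMatrix.E₇) (by simp [IsType, typeList]) (by norm_num) F p).of_equiv e.symm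
  · exact (rk2_group (l := 8) (M := CoxeterMatrix.E₈) (by simp [IsType, typeList]) (by norm_num) F p).of_equiv e.symm

end Exc

section Fold

open CoxeterSystem Cfsg.Agent.ChevalleyStructure.CoxeterGeom Cfsg.Agent.Tits.Roots Cfsg.Agent.Tits.Core
  Cfsg.Agent.Nodes.BNOf Cfsg.Agent.Nodes.RGDTwGen Cfsg.Agent.Nodes.RGDChev Cfsg.Agent.Nodes.RGDFold
open Cfsg.Lie Cfsg.Agent.ChevalleyStructure Cfsg.Agent.ChevalleyStructure.Elts
  Cfsg.Agent.ChevalleyStructure.RootVec Cfsg.Agent.ChevalleyStructure.RootVecTab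
open Cfsg.Agent.Nodes

variable {D : ChevalleyDatum} {l : ℕ} {M' : CoxeterMatrix (Fin l)} {hp : IsType D l M'} {K : Type u} [Field K]
variable {m : ℕ} {M : CoxeterMatrix (Fin m)} {A : Fin m → Fin m → ℤ}
variable {J : Fin m → List (Fin l)} {L : List (List ℕ)} {σ : GL D.Idx K →* GL D.Idx K} {ρ ρ' : ℕ → ℕ}
    {f : ℕ → K → K} {G : Subgroup (GL D.Idx K)} (FD : FoldData D M A J L)
    (FG : FoldGrp hp K J L σ ρ ρ' f G)

include FD FG

theorem rk2_fold [Finite K] (p : ℕ) [CharP K p] (h : IsCartan M A) (hm : 2 ≤ m) : HasRk2 p ↥G := by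
  have : Fact p.Prime := ⟨CharP.char_is_prime K p⟩
  exact ⟨m, M, A, h, _, _, _, _root_.Cfsg.Agent.Nodes.RGDFold.rgd M.toCoxeterSystem h FD FG p, hm, _root_.Cfsg.Agent.Nodes.RGDFold.finite_W (hp := hp) M.toCoxeterSystem h FD,
    _root_.Cfsg.Agent.Nodes.RGDFold.G1_eq_top M.toCoxeterSystem h FD FG p⟩

end Fold

theorem rk2_of_twisted {p : ℕ} {G : Type*} [Group G] (hG : IsTwistedE6D4Char p G) : HasRk2 p G := by
  obtain ⟨K, _, _, _, q, hq, ⟨hK, ⟨e⟩⟩ | ⟨hK, ⟨e⟩⟩⟩ := hG
  · obtain ⟨φ, hφ, hqq⟩ := Cfsg.Agent.ChevalleyStructure.TwE6Basic.exists_frob hq hK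
    exact (rk2_fold Nodes.RGDTwE6.foldData (Nodes.RGDTwE6.foldGrp hφ hqq) p Nodes.RGDTwE6.isCartan
      (by norm_num)).of_equiv e.symm
  · obtain ⟨φ, hφ⟩ := Cfsg.Agent.ChevalleyStructure.D4Fixed.exists_frob hq hK
    exact (rk2_fold Nodes.RGDTwD4.foldData (Nodes.RGDTwD4.foldGrp hφ
      (Cfsg.Agent.ChevalleyStructure.D4Fixed.twisted_le_fix hK hφ)) p Nodes.RGDTwD4.isCartan
      (by norm_num)).of_equiv e.symm

open Cfsg.Agent.Nodes.RGDClass (fact_prime)

/-- **The groups of Lie type in odd characteristic have rank `≥ 2` or are `PSL₂(F)`, `PSU₃(q)`, `²G₂(q)`.** -/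
theorem rk2_or {p : ℕ} (hp2 : p ≠ 2) {G : Type*} [Group G] (h : IsLieTypeChar p G) :
    HasRk2 p G ∨
      (∃ (F : Type) (_ : Field F) (_ : Fintype F) (_ : CharP F p), 4 ≤ Fintype.card F ∧
        Nonempty (G ≃* Matrix.ProjectiveSpecialLinearGroup (Fin 2) F)) ∨
      (∃ (F : Type) (_ : Field F) (_ : Fintype F) (_ : CharP F p) (q : ℕ), Fintype.card F = q ^ 2 ∧ q ≠ 2 ∧
        Nonempty (G ≃* PSU 3 F q)) ∨ (p = 3 ∧ Lie.IsoRee G) := by
  rcases h with h | h | h | h | h | h | h | h | h | h | h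
  · obtain ⟨F, _, _, _, n, hn, hn4, ⟨e⟩⟩ := h
    have : Fact p.Prime := fact_prime (F := F)
    rcases Nat.lt_or_ge 2 n with hn2 | hn2
    · left
      obtain ⟨n, rfl⟩ : ∃ k, n = k + 1 := ⟨n - 1, by omega⟩
      have : Finite (Matrix.ProjectiveSpecialLinearGroup (Fin (n + 1)) F) := Quotient.finite _
      exact (rk2_PSL n (by omega)).of_equiv e.symm
    · right; left
      obtain rfl : n = 2 := le_antisymm hn2 hn
      exact ⟨F, _, _, inferInstance, hn4 rfl, ⟨e⟩⟩
  · left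
    obtain ⟨F, _, _, _, m, hm, -, ⟨e⟩⟩ := h
    have : Fact p.Prime := fact_prime (F := F)
    have : Finite (PSp m F) := Quotient.finite _
    exact (rk2_PSp hm).of_equiv e.symm
  · obtain ⟨F, _, _, _, n, q, hF, hn, hn2, ⟨e⟩⟩ := h
    have : Fact p.Prime := fact_prime (F := F)
    rcases Nat.lt_or_ge 3 n with hn3 | hn3
    · left
      have : Finite (PSU n F q) := Quotient.finite _
      exact (rk2_PSU hF hn3).of_equiv e.symm
    · right; right; left
      obtain rfl : n = 3 := le_antisymm hn3 hn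
      exact ⟨F, _, _, inferInstance, q, hF, fun h0 => hn2 ⟨rfl, h0⟩, ⟨e⟩⟩
  · left
    obtain ⟨F, _, _, _, m, hm, hodd, ⟨e⟩⟩ := h
    have : Fact p.Prime := fact_prime (F := F)
    have h2 : (2 : F) ≠ 0 := by
      intro h2
      have h3 : CharP F 2 := CharTwo.of_one_ne_zero_of_two_eq_zero one_ne_zero h2
      exact hp2 (CharP.eq F ‹CharP F p› h3)
    have : Finite (Cfsg.POmega F (Cfsg.quadFormOdd m F)) := Quotient.finite _
    exact (rk2_PO_odd h2 (by omega)).of_equiv e.symm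
  · left
    obtain ⟨F, _, _, _, m, hm, ⟨e⟩⟩ := h
    have : Fact p.Prime := fact_prime (F := F)
    obtain ⟨n, rfl⟩ : ∃ n, m = n + 3 := ⟨m - 3, by omega⟩
    have : Finite (Cfsg.POmega F (Cfsg.quadFormPlus (n + 3) F)) := Quotient.finite _
    exact (rk2_PO_plus n).of_equiv e.symm
  · left
    obtain ⟨F, _, _, _, m, a, b, hm, hab, ⟨e⟩⟩ := h
    have : Fact p.Prime := fact_prime (F := F)
    have : Finite (Cfsg.POmega F (Cfsg.quadFormMinus (m - 1) F a b)) := Quotient.finite _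
    exact (rk2_PO_minus a b hab (by omega)).of_equiv e.symm
  · exact Or.inl (rk2_of_exceptional h)
  · exact Or.inl (rk2_of_twisted h)
  · exact absurd h.1 hp2
  · exact absurd h.1 hp2
  · exact Or.inr (Or.inr (Or.inr h))

end Cfsg.Agent.H794.DefRank
end

-- part: H794/PslTwo
section
set_option linter.all false
open scoped Cfsg.Agent.FastGrp

/-!
# Strongly closed subgroups of `PSL₂(F)` in the characteristic of `F`

`full_psl` : `Full p (PSL₂ F)`.
-/

set_option autoImplicit false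
set_option linter.unusedSectionVars false

namespace Cfsg.Agent.H794.PslTwo

open Cfsg Matrix Subgroup Cfsg.Agent.Classification.PSLTwoEvenSylow Cfsg.Agent.H794

/-- One Sylow subgroup suffices. -/
theorem Full.of_one {p : ℕ} [Fact p.Prime] {G : Type*} [Group G] [Finite G] (Q : Sylow p G)
    (h : ∀ A : Subgroup G, A ≤ (Q : Subgroup G) → (∀ n : G, ∀ a ∈ A, n * a * n⁻¹ ∈ (Q : Subgroup G) → n * a * n⁻¹ ∈ A) →
      A = ⊥ ∨ A = (Q : Subgroup G)) : Full p G := by
  intro S A hA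
  obtain ⟨k, hk⟩ := MulAction.exists_smul_eq G S Q
  have hkS : (S : Subgroup G).map (MulAut.conj k).toMonoidHom = (Q : Subgroup G) := by
    rw [← hk]; rfl
  rcases h (A.map (MulAut.conj k).toMonoidHom) (by rw [← hkS]; exact Subgroup.map_mono hA.1) (by
    rintro n _ ⟨a, ha, rfl⟩ hn
    rw [← hkS] at hn
    obtain ⟨s, hs, hs'⟩ := hn
    change k * s * k⁻¹ = n * (k * a * k⁻¹) * n⁻¹ at hs'
    have e : s = (k⁻¹ * n * k) * a * (k⁻¹ * n * k)⁻¹ := by
      have : s = k⁻¹ * (k * s * k⁻¹) * k := by group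
      rw [this, hs']; group
    refine ⟨s, ?_, hs'⟩
    rw [e]
    exact hA.2 a ha _ (by rw [← e]; exact hs)) with h1 | h1
  · exact Or.inl ((Subgroup.map_eq_bot_iff_of_injective _ (MulAut.conj k).injective).1 h1)
  · right
    rw [← hkS] at h1
    exact Subgroup.map_injective (MulAut.conj k).injective h1

section

variable {F : Type*} [Field F]

/-- the diagonal matrices -/
def dg (k : F) (hk : k ≠ 0) : SpecialLinearGroup (Fin 2) F :=
  ⟨!![k, 0; 0, k⁻¹], by simp [Matrix.det_fin_two, hk]⟩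

theorem dg_coe (k : F) (hk : k ≠ 0) : (dg k hk : Matrix (Fin 2) (Fin 2) F) = !![k, 0; 0, k⁻¹] := rfl

theorem uni_coe (a : Multiplicative F) :
    (uni a : Matrix (Fin 2) (Fin 2) F) = !![1, Multiplicative.toAdd a; 0, 1] := rfl

theorem dg_mul (k : F) (hk : k ≠ 0) (a : F) :
    dg k hk * uni (Multiplicative.ofAdd a) = uni (Multiplicative.ofAdd (k ^ 2 * a)) * dg k hk := by
  apply Subtype.ext
  rw [Matrix.SpecialLinearGroup.coe_mul, Matrix.SpecialLinearGroup.coe_mul, dg_coe, uni_coe, uni_coe,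
    toAdd_ofAdd, toAdd_ofAdd, Matrix.mul_fin_two, Matrix.mul_fin_two]
  ext i j
  fin_cases i <;> fin_cases j <;> simp
  field_simp

variable [Fintype F] {p : ℕ} [hp : Fact p.Prime] [CharP F p]

theorem eq_of_isPGroup {Q : Subgroup (ProjectiveSpecialLinearGroup (Fin 2) F)} (hQ : IsPGroup p Q)
    (h : (uniP (F := F)).range ≤ Q) : (uniP (F := F)).range = Q := by
  have : Finite (ProjectiveSpecialLinearGroup (Fin 2) F) := Quotient.finite _
  obtain ⟨n, hp1, hn⟩ := FiniteField.card F p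
  have hcardU : Nat.card (uniP (F := F)).range = p ^ (n : ℕ) := by
    rw [← Nat.card_congr (MonoidHom.ofInjective uniP_injective).toEquiv, ← hn, ← Nat.card_eq_fintype_card]
    exact Nat.card_congr Multiplicative.toAdd
  obtain ⟨m, hm⟩ := IsPGroup.iff_card.1 hQ
  refine Subgroup.eq_of_le_of_card_ge h ?_
  rw [hcardU, hm]
  refine Nat.pow_le_pow_right hp1.pos ?_
  by_contra hlt
  push Not at hlt
  -- the order
  have h0 := Cfsg.Agent.S0243.result (F := F) (q := Fintype.card F) rfl 2 le_rfl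
  have hdvd : p ^ ((n : ℕ) + 1) ∣ Nat.card (ProjectiveSpecialLinearGroup (Fin 2) F) :=
    (pow_dvd_pow p hlt).trans (hm ▸ Subgroup.card_subgroup_dvd_card Q)
  rw [Fin.prod_univ_two] at h0
  simp only [Fin.val_zero, pow_zero, Fin.val_one, pow_one] at h0
  have hq2 : 2 ≤ Fintype.card F := Fintype.one_lt_card
  have hdvd2 : p ^ ((n : ℕ) + 1) ∣ (Fintype.card F ^ 2 - 1) * (Fintype.card F ^ 2 - Fintype.card F) := by
    rw [← h0]
    exact Dvd.dvd.mul_left (Dvd.dvd.mul_left hdvd _) _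
  have e1 : Fintype.card F ^ 2 - Fintype.card F = p ^ (n : ℕ) * (Fintype.card F - 1) := by
    rw [← hn, Nat.mul_sub, pow_two, mul_one]
  rw [e1, show (Fintype.card F ^ 2 - 1) * (p ^ (n : ℕ) * (Fintype.card F - 1)) =
    p ^ (n : ℕ) * ((Fintype.card F ^ 2 - 1) * (Fintype.card F - 1)) by ring, pow_succ] at hdvd2
  have h3 : p ∣ (Fintype.card F ^ 2 - 1) * (Fintype.card F - 1) :=
    Nat.dvd_of_mul_dvd_mul_left (pow_pos hp1.pos _) hdvd2
  have hpq : p ∣ Fintype.card F := by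
    rw [hn]
    exact dvd_pow_self p n.ne_zero
  rcases (hp1.dvd_mul).1 h3 with h4 | h4
  · have h5 : p ∣ Fintype.card F ^ 2 := Dvd.dvd.pow hpq (by norm_num)
    have h6 : 1 ≤ Fintype.card F ^ 2 := Nat.one_le_pow _ _ (by omega)
    have h7 := (Nat.dvd_add_right h4).1 (by rwa [Nat.sub_add_cancel h6])
    exact hp1.one_lt.ne' (Nat.dvd_one.1 h7)
  · have h7 := (Nat.dvd_add_right h4).1 (by rwa [Nat.sub_add_cancel (by omega)])
    exact hp1.one_lt.ne' (Nat.dvd_one.1 h7)

/-- every element is a difference of squares -/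
theorem exists_sq_sub_sq (x : F) : ∃ s t : F, x = s ^ 2 - t ^ 2 := by
  by_cases h2 : (2 : F) = 0
  · have : CharP F 2 := CharTwo.of_one_ne_zero_of_two_eq_zero one_ne_zero h2
    obtain ⟨n, -, hn⟩ := FiniteField.card F 2
    refine ⟨x ^ 2 ^ ((n : ℕ) - 1), 0, ?_⟩
    rw [← pow_mul, ← pow_succ, Nat.sub_add_cancel n.pos, ← hn, FiniteField.pow_card]
    simp
  · refine ⟨(x + 1) / 2, (x - 1) / 2, ?_⟩
    field_simp
    ring

theorem full_psl : Full p (ProjectiveSpecialLinearGroup (Fin 2) F) := by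
  classical
  have : Finite (ProjectiveSpecialLinearGroup (Fin 2) F) := Quotient.finite _
  obtain ⟨n, hp1, hn⟩ := FiniteField.card F p
  have hcardU : Nat.card (uniP (F := F)).range = p ^ (n : ℕ) := by
    rw [← Nat.card_congr (MonoidHom.ofInjective uniP_injective).toEquiv, ← hn, ← Nat.card_eq_fintype_card]
    exact Nat.card_congr Multiplicative.toAdd
  have hU : IsPGroup p (uniP (F := F)).range := IsPGroup.of_card hcardU
  obtain ⟨Q, hQ⟩ := hU.exists_le_sylow
  have hEq := eq_of_isPGroup Q.isPGroup' hQ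
  refine Full.of_one Q fun A hAQ hA => ?_
  rw [← hEq] at hAQ hA ⊢
  by_cases hA1 : A = ⊥
  · exact Or.inl hA1
  right
  refine le_antisymm hAQ ?_
  obtain ⟨x, hx, hx1⟩ := A.bot_or_exists_ne_one.resolve_left hA1
  obtain ⟨a', rfl⟩ := hAQ hx
  obtain ⟨a, ha⟩ : ∃ a : F, a' = Multiplicative.ofAdd a := ⟨Multiplicative.toAdd a', rfl⟩
  rw [ha] at hx hx1
  have ha0 : a ≠ 0 := by
    rintro rfl
    exact hx1 (map_one _)
  -- closed under multiplication by squares
  have hsq : ∀ s : F, uniP (Multiplicative.ofAdd (s ^ 2 * a)) ∈ A := by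
    intro s
    by_cases hs : s = 0
    · subst hs
      simp only [ne_eq, OfNat.ofNat_ne_zero, not_false_eq_true, zero_pow, zero_mul, ofAdd_zero, map_one]
      exact one_mem A
    · have h1 : (QuotientGroup.mk' (Subgroup.center (SpecialLinearGroup (Fin 2) F)) (dg s hs)) *
          uniP (Multiplicative.ofAdd a) *
          (QuotientGroup.mk' (Subgroup.center (SpecialLinearGroup (Fin 2) F)) (dg s hs))⁻¹ =
          uniP (Multiplicative.ofAdd (s ^ 2 * a)) := by
        rw [mul_inv_eq_iff_eq_mul]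
        change QuotientGroup.mk' _ _ * QuotientGroup.mk' _ _ = QuotientGroup.mk' _ _ * QuotientGroup.mk' _ _
        rw [← map_mul, ← map_mul, dg_mul]
      have h2 := hA _ _ hx (by rw [h1]; exact ⟨_, rfl⟩)
      rwa [h1] at h2
  rintro _ ⟨b', rfl⟩
  obtain ⟨b, hb'⟩ : ∃ b : F, b' = Multiplicative.ofAdd b := ⟨Multiplicative.toAdd b', rfl⟩
  rw [hb']
  obtain ⟨s, t, hst⟩ := exists_sq_sub_sq (b / a)
  have hb : b = s ^ 2 * a - t ^ 2 * a := by
    rw [← sub_mul, ← hst]
    field_simp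
  rw [hb, ofAdd_sub, map_div]
  exact div_mem (hsq s) (hsq t)

end

end Cfsg.Agent.H794.PslTwo
end
end
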