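import Cfsg.Agent.H759.FusBasic
import Cfsg.Agent.H802.FusNorm
set_option linter.all false

/-!
# When `S` is normal in a saturated fusion system (helper794)

* `aut_extends_or`: an automorphism (in the system) of a fully automized receptive `Q` either extends to a strictly
  larger subgroup or `Q` is centric and radical.
* `isNormal_top`: `S` is normal in `F` as soon as every fully normalized, centric, radical subgroup `Q` with
  `Q < S` does not occur (`Aut_F(Q)` having a normal Sylow `p`-subgroup).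
-/

set_option autoImplicit false

namespace Cfsg.Agent.H794

open Cfsg Cfsg.FusionSystem Cfsg.Agent.H802
open scoped Pointwise

variable {Ω : Type*} [Group Ω] {S : Subgroup Ω}

theorem le_pCore {G : Type*} [Group G] {p : ℕ} {N : Subgroup G} (hN : N.Normal)
    (h : IsPGroup p N) : N ≤ pCore p G := le_sSup ⟨hN, h⟩

theorem pCore_le_sylow {G : Type*} [Group G] [Finite G] {p : ℕ} [Fact p.Prime] (R : Sylow p G) :
    pCore p G ≤ (R : Subgroup G) := by
  refine sSup_le ?_
  rintro N ⟨hN, hNp⟩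
  obtain ⟨R', hR'⟩ := hNp.exists_le_sylow
  obtain ⟨g, hg⟩ := MulAction.exists_smul_eq G R' R
  intro x hx
  have h1 : g⁻¹ * x * g⁻¹⁻¹ ∈ N := hN.conj_mem x hx g⁻¹
  have h2 := Subgroup.smul_mem_pointwise_smul _ (MulAut.conj g) (R' : Subgroup G) (hR' h1)
  have h3 : (MulAut.conj g • (R' : Subgroup G)) = (R : Subgroup G) := by rw [← hg]; rfl
  rw [h3] at h2
  have h4 : (MulAut.conj g) • (g⁻¹ * x * g⁻¹⁻¹) = x := by
    show g * (g⁻¹ * x * g⁻¹⁻¹) * g⁻¹ = x
    group
  rwa [h4] at h2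

theorem pCore_normal (G : Type*) [Group G] (p : ℕ) : (pCore p G).Normal := by
  unfold pCore
  refine ⟨fun n hn g => ?_⟩
  have hle : sSup {N : Subgroup G | N.Normal ∧ IsPGroup p N} ≤
      (sSup {N : Subgroup G | N.Normal ∧ IsPGroup p N}).comap (MulAut.conj g).toMonoidHom := by
    refine sSup_le ?_
    intro N hN x hx
    exact (le_sSup hN : N ≤ _) (hN.1.conj_mem x hx g)
  exact hle hn

theorem pCore_isPGroup {G : Type*} [Group G] [Finite G] {p : ℕ} [Fact p.Prime] :
    IsPGroup p (pCore p G) := by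
  obtain ⟨R⟩ : Nonempty (Sylow p G) := inferInstance
  exact R.isPGroup'.to_le (pCore_le_sylow R)

/-- If some Sylow `p`-subgroup is normal it is `O_p`, and every `p`-subgroup lies in it. -/
theorem le_pCore_of_normal_sylow {G : Type*} [Group G] [Finite G] {p : ℕ} [Fact p.Prime]
    (R : Sylow p G) (hR : (R : Subgroup G).Normal) (T : Subgroup G) (hT : IsPGroup p T) :
    T ≤ pCore p G := by
  obtain ⟨R', hR'⟩ := hT.exists_le_sylow
  obtain ⟨g, hg⟩ := MulAction.exists_smul_eq G R R'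
  have h1 : (R : Subgroup G) = (R' : Subgroup G) := by
    have : (R' : Subgroup G) = MulAut.conj g • (R : Subgroup G) := by rw [← hg]; rfl
    rw [this]
    exact (Subgroup.Normal.conj_smul_eq_self g (R : Subgroup G)).symm
  exact (hR'.trans h1.ge).trans (le_pCore hR R.isPGroup')

/-- `P` fully centralized with `C_S(P) ≤ P` is centric. -/
theorem isCentric_of_centralizerIn_le [Finite S] {F : FusionSystem S} {P : Subgroup Ω}
    (hP : F.IsFullyCentralized P) (hc : centralizerIn S P ≤ P) : F.IsCentric P := by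
  refine ⟨hP.1, fun Q hQ => ?_⟩
  obtain ⟨φ, hφ, hφQ⟩ := hQ
  have hQS : Q ≤ S := isConj_le_right ⟨φ, hφ, hφQ⟩
  have hcard := hP.2 Q ⟨φ, hφ, hφQ⟩
  -- `φ` maps `C_S(P) = Z(P)` into `Q ⊓ C_S(Q)`
  have hfin : Finite (centralizerIn S Q) := finite_of_le inf_le_left
  have hfin2 : Finite (centralizerIn S P) := finite_of_le inf_le_left
  have hmaps : ∀ (x : Ω) (hx : x ∈ centralizerIn S P), φ ⟨x, hc hx⟩ ∈ centralizerIn S Q := by
    intro x hx
    refine ⟨hom_apply_mem hφ _, Subgroup.mem_centralizer_iff.2 fun z hz => ?_⟩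
    rw [← hφQ] at hz
    obtain ⟨w, rfl⟩ := hz
    rw [← map_mul, ← map_mul]
    congr 1
    apply Subtype.ext
    exact Subgroup.mem_centralizer_iff.1 hx.2 w w.2
  intro b hb
  obtain ⟨x, hx, hxb⟩ := exists_preimage_of_card (F.injective_of_mem hφ) hc hmaps hcard b hb
  rw [← hxb, ← hφQ]
  exact ⟨_, rfl⟩

/-- Let `Q` be fully automized and receptive. If the extender of every element of `Aut_F(Q)` is `Q` itself,
or just: if for a given set of automorphisms... Here: if some automorphism `α ∈ Aut_F(Q)` has extender `Q`, then `Q` is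
centric and radical. -/
theorem isCentric_and_isRadical_of_extender [Finite S] {p : ℕ} [Fact p.Prime] (hS : IsPGroup p S)
    {F : FusionSystem S} {Q : Subgroup Ω} (hQa : F.IsFullyAutomized p Q) (hQr : F.IsReceptive Q)
    {α : MulAut Q} (hα : α ∈ F.autGroup Q)
    (hext : extender S Q (Q.subtype.comp α.toMonoidHom) ≤ Q) :
    F.IsCentric Q ∧ F.IsRadical p Q := by
  have hQS : Q ≤ S := hQa.1
  have hfQ : Finite Q := finite_of_le hQS
  have hcen : F.IsCentric Q := isCentric_of_centralizerIn_le (isFullyCentralized_of_isReceptive hQr)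
    ((centralizerIn_le_extender S Q _).trans hext)
  refine ⟨hcen, hQS, ?_⟩
  have hInnA : Inn Q ≤ F.autGroup Q := by
    rintro _ ⟨q, rfl⟩
    refine autInducedBy_le_autGroup F hQS ((mem_autInducedBy_iff S Q _).2 ⟨q, hQS q.2, fun x => rfl⟩)
  apply le_antisymm
  · -- `O_p(Aut_F(Q)) ≤ Inn Q`
    rintro _ ⟨k, hk, rfl⟩
    obtain ⟨-, R, hR⟩ := hQa
    -- `α k α⁻¹` again in the core
    have hnor := pCore_normal (F.autGroup Q) p
    have h1 : (⟨α, hα⟩ : F.autGroup Q) * k * (⟨α, hα⟩ : F.autGroup Q)⁻¹ ∈ pCore p (F.autGroup Q) :=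
      hnor.conj_mem k hk _
    have hkR := pCore_le_sylow R hk
    have h1R := pCore_le_sylow R h1
    rw [hR, Subgroup.mem_subgroupOf, mem_autInducedBy_iff] at hkR h1R
    obtain ⟨g, hgS, hg⟩ := hkR
    obtain ⟨h, hhS, hh⟩ := h1R
    have hgN : g ∈ Subgroup.normalizer (Q : Set Ω) := mem_normalizer_of_aut hg
    have hgE : g ∈ extender S Q (Q.subtype.comp α.toMonoidHom) := by
      rw [mem_extender_iff]
      refine ⟨hgS, hgN, h, hhS, fun x hx => ?_⟩
      have e1 := hh (α x)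
      have e2 : (((⟨α, hα⟩ : F.autGroup Q) * k * (⟨α, hα⟩ : F.autGroup Q)⁻¹ : F.autGroup Q) : MulAut Q)
          (α x) = α ((k : MulAut Q) x) := by
        show (α * (k : MulAut Q) * α⁻¹) (α x) = _
        rw [MulAut.mul_apply, MulAut.mul_apply, MulAut.inv_apply_self]
      rw [e2] at e1
      show ((α ⟨g * x * g⁻¹, hx⟩ : Q) : Ω) = h * ((α x : Q) : Ω) * h⁻¹
      rw [← e1]
      congr 2
      exact Subtype.ext (hg x).symm
    have hgQ : g ∈ Q := hext hgE
    refine ⟨⟨g, hgQ⟩, ?_⟩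
    apply MulEquiv.ext
    intro x
    apply Subtype.ext
    show g * (x : Ω) * g⁻¹ = _
    exact (hg x).symm
  · -- `Inn Q ≤ O_p(Aut_F(Q))`
    intro β hβ
    have hQp : IsPGroup p Q := hS.to_le hQS
    have hInnp : IsPGroup p (Inn Q) := by
      have := hQp.of_surjective (MulAut.conj : Q →* MulAut Q).rangeRestrict
        (MonoidHom.rangeRestrict_surjective _)
      exact this
    have hnorm : ((Inn Q).subgroupOf (F.autGroup Q)).Normal := by
      refine ⟨?_⟩
      rintro ⟨n, hn⟩ hn' ⟨g, hg⟩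
      obtain ⟨q, hq⟩ := hn'
      refine ⟨g q, ?_⟩
      have hq' : MulAut.conj q = n := hq
      show MulAut.conj (g q) = g * n * g⁻¹
      rw [← hq']
      apply MulEquiv.ext
      intro x
      simp only [MulAut.mul_apply, MulAut.conj_apply, map_mul, map_inv]
      rw [MulAut.apply_inv_self]
    have hle := le_pCore hnorm (hInnp.comap_of_injective (F.autGroup Q).subtype
      (Subgroup.subtype_injective _))
    exact ⟨⟨β, hInnA hβ⟩, hle hβ, rfl⟩

/-- If `Aut_F(Q)` has a normal Sylow `p`-subgroup and `Q` is fully automized, centric and radical, then `Q = S`. -/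
theorem eq_top_of_p_closed [Finite S] {p : ℕ} [Fact p.Prime] (hS : IsPGroup p S)
    {F : FusionSystem S} {Q : Subgroup Ω} (hQa : F.IsFullyAutomized p Q) (hc : F.IsCentric Q)
    (hr : F.IsRadical p Q)
    (hcl : ∃ R : Sylow p ↥(F.autGroup Q), (R : Subgroup ↥(F.autGroup Q)).Normal) : Q = S := by
  have hQS : Q ≤ S := hQa.1
  have hfQ : Finite Q := finite_of_le hQS
  by_contra hne
  obtain ⟨g, hgS, hgQ, hgN⟩ := Cfsg.Agent.H759.exists_mem_normalizer_not_mem hS le_rfl
    (lt_of_le_of_ne hQS hne)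
  obtain ⟨β, hβ⟩ := exists_conjAut hgN
  have hβI : β ∈ autInducedBy S Q := (mem_autInducedBy_iff S Q β).2 ⟨g, hgS, hβ⟩
  have hβA : β ∈ F.autGroup Q := autInducedBy_le_autGroup F hQS hβI
  obtain ⟨R, hR⟩ := hcl
  have hp : IsPGroup p ((autInducedBy S Q).subgroupOf (F.autGroup Q)) :=
    (isPGroup_autInducedBy hS Q).comap_of_injective (F.autGroup Q).subtype
      (Subgroup.subtype_injective _)
  have h1 := le_pCore_of_normal_sylow R hR _ hp
  have h2 : (⟨β, hβA⟩ : F.autGroup Q) ∈ pCore p (F.autGroup Q) := h1 hβI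
  have h3 : β ∈ Inn Q := by
    rw [← hr.2]
    exact ⟨_, h2, rfl⟩
  obtain ⟨q, hq⟩ := h3
  have hcomm : (q : Ω)⁻¹ * g ∈ centralizerIn S Q := by
    refine ⟨S.mul_mem (S.inv_mem (hQS q.2)) hgS, Subgroup.mem_centralizer_iff.2 fun x hx => ?_⟩
    have e1 := hβ ⟨x, hx⟩
    rw [← hq] at e1
    have e2 : (q : Ω) * x * (q : Ω)⁻¹ = g * x * g⁻¹ := e1
    calc x * ((q : Ω)⁻¹ * g) = (q : Ω)⁻¹ * ((q : Ω) * x * (q : Ω)⁻¹) * g := by group
      _ = (q : Ω)⁻¹ * (g * x * g⁻¹) * g := by rw [e2]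
      _ = (q : Ω)⁻¹ * g * x := by group
  have hmem : (q : Ω)⁻¹ * g ∈ Q := hc.2 Q (isConj_refl F hQS) hcomm
  apply hgQ
  have := Q.mul_mem q.2 hmem
  simpa using this

/-- If every automorphism in `F` of every fully normalized centric radical subgroup `Q < S` (with all maps of
larger source extending to `S`) extends to `S`, then all maps of `F` extend to `S`. -/
theorem all_extend [Finite S] {p : ℕ} [Fact p.Prime] (hS : IsPGroup p S) {F : FusionSystem S}
    (hF : F.IsSaturated p)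
    (hcr : ∀ Q : Subgroup Ω, F.IsFullyNormalized Q → F.IsCentric Q → F.IsRadical p Q → Q ≠ S →
      ∀ α ∈ F.autGroup Q, ∃ ψ ∈ F.Hom S, ∀ (x : Q) (hx : (x : Ω) ∈ S), ψ ⟨x, hx⟩ = ((α x : Q) : Ω)) :
    ∀ (P : Subgroup Ω) (φ : P →* Ω), φ ∈ F.Hom P →
      ∃ ψ ∈ F.Hom S, ∀ (x : P) (hx : (x : Ω) ∈ S), ψ ⟨x, hx⟩ = φ x := by
  refine Cfsg.Agent.H759.saturated_induction F hS hF
    (fun P φ => ∃ ψ ∈ F.Hom S, ∀ (x : P) (hx : (x : Ω) ∈ S), ψ ⟨x, hx⟩ = φ x) ?_ ?_ ?_ ?_
  · rintro P R φ χ hφ ⟨ψ, hψ, he⟩ hRP hχ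
    refine ⟨ψ, hψ, fun x hx => ?_⟩
    rw [hχ x]
    exact he ⟨x, hRP x.2⟩ hx
  · rintro P Q φ ψ χ hφ hψ ⟨φ', hφ', he⟩ ⟨ψ', hψ', he'⟩ hχ
    obtain ⟨ω, hω, hωe⟩ := exists_comp hφ' hψ' (hom_apply_mem hφ')
    refine ⟨ω, hω, fun x hx => ?_⟩
    rw [hωe]
    obtain ⟨h1, h2⟩ := hχ x
    rw [h2]
    have e1 : φ' ⟨x, hx⟩ = φ x := he x hx
    rw [← he' ⟨φ x, h1⟩ (hom_apply_mem hφ x)]
    congr 1
    exact Subtype.ext e1
  · rintro P R φ χ hφ ⟨φ', hφ', he⟩ hχ hi
    have hr : φ'.range = S := range_eq_of_mapsTo hφ' (hom_apply_mem hφ')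
    obtain ⟨ψ, hψ, hψr, h1, h2⟩ := exists_inv hφ' hr
    refine ⟨ψ, hψ, fun y hy => ?_⟩
    obtain ⟨x, hx1, hx2⟩ := hi y
    rw [hx2]
    have hPS : P ≤ S := hom_le hφ
    have e1 : φ' ⟨x, hPS x.2⟩ = y := by rw [he x (hPS x.2), hx1]
    have e3 := h1 ⟨x, hPS x.2⟩ (hom_apply_mem hφ' _)
    rw [← e3]
    congr 1
    exact Subtype.ext e1.symm
  · intro Q hQa hQr hbig α hα
    have hQS : Q ≤ S := hQa.1
    have hfQ : Finite Q := finite_of_le hQS
    have hαm : Q.subtype.comp α.toMonoidHom ∈ F.Hom Q := (mem_autGroup_iff F hQS α).1 hα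
    by_cases hQ : Q = S
    · subst hQ
      exact ⟨_, hαm, fun x hx => rfl⟩
    by_cases hext : extender S Q (Q.subtype.comp α.toMonoidHom) ≤ Q
    · obtain ⟨hc, hr⟩ := isCentric_and_isRadical_of_extender hS hQa hQr hα hext
      exact hcr Q (isFullyNormalized_of_automized_receptive hS hQa hQr) hc hr hQ α hα
    · have hrange : (Q.subtype.comp α.toMonoidHom).range = Q := by
        ext y
        constructor
        · rintro ⟨x, rfl⟩
          exact (α x).2
        · intro hy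
          exact ⟨α.symm ⟨y, hy⟩, congrArg Subtype.val (α.apply_symm_apply ⟨y, hy⟩)⟩
      obtain ⟨ψ, hψ, hψe⟩ := hQr.2 Q _ hαm hrange
      have hQE : Q ≤ extender S Q (Q.subtype.comp α.toMonoidHom) :=
        le_extender hQS (hom_apply_mem hαm)
      have hfE : Finite (extender S Q (Q.subtype.comp α.toMonoidHom)) := finite_of_le (extender_le _ _ _)
      have hlt : Nat.card Q < Nat.card (extender S Q (Q.subtype.comp α.toMonoidHom)) := by
        refine lt_of_le_of_ne (Subgroup.card_le_of_le hQE) (fun h => hext ?_)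
        exact (Subgroup.eq_of_le_of_card_ge hQE h.ge).ge
      obtain ⟨ω, hω, hωe⟩ := hbig _ ψ hψ hlt
      refine ⟨ω, hω, fun x hx => ?_⟩
      rw [← hψe x x.2 (hQE x.2)]
      exact hωe ⟨x, hQE x.2⟩ hx

/-- If all maps extend to `S`, then `S` is normal in the system. -/
theorem isNormal_of_extend [Finite S] {F : FusionSystem S}
    (h : ∀ (P : Subgroup Ω) (φ : P →* Ω), φ ∈ F.Hom P →
      ∃ ψ ∈ F.Hom S, ∀ (x : P) (hx : (x : Ω) ∈ S), ψ ⟨x, hx⟩ = φ x) : F.IsNormal S := by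
  refine ⟨le_rfl, fun P φ hφ => ?_⟩
  obtain ⟨ψ, hψ, he⟩ := h P φ hφ
  have hPS : P ≤ S := hom_le hφ
  have hle : P ⊔ S ≤ S := sup_le hPS le_rfl
  refine ⟨ψ.comp (Subgroup.inclusion hle), restrict_mem hψ hle, fun x => ?_, ?_⟩
  · exact he x (hPS x.2)
  · ext y
    constructor
    · rintro ⟨x, hx, rfl⟩
      exact hom_apply_mem hψ _
    · intro hy
      have hr : ψ.range = S := range_eq_of_mapsTo hψ (hom_apply_mem hψ)
      rw [← hr] at hy
      obtain ⟨x, rfl⟩ := hy
      exact ⟨⟨x, le_sup_right (a := P) x.2⟩, x.2, rfl⟩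

/-- `S` is normal in a saturated system `F` iff (here: if) `Aut_F(Q)` has a normal Sylow `p`-subgroup for every fully
normalized, centric, radical `Q < S`. -/
theorem isNormal_of_p_closed [Finite S] {p : ℕ} [Fact p.Prime] (hS : IsPGroup p S)
    {F : FusionSystem S} (hF : F.IsSaturated p)
    (hcl : ∀ P : Subgroup Ω, F.IsFullyNormalized P → F.IsCentric P → F.IsRadical p P →
      ∃ R : Sylow p ↥(F.autGroup P), (R : Subgroup ↥(F.autGroup P)).Normal) :
    F.IsNormal S := by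
  refine isNormal_of_extend (all_extend hS hF ?_)
  intro Q hQn hc hr hne
  exact absurd (eq_top_of_p_closed hS (isFullyAutomized_of_isFullyNormalized hS hF hQn) hc hr
    (hcl Q hQn hc hr)) hne

end Cfsg.Agent.H794
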