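import Cfsg.Agent.H794.MonThirteen_m3
import Cfsg.Agent.H794.DefRank_m3
import Cfsg.Agent.FixBN.HeStab
import Cfsg.Agent.KFacts.He.TwoA_m3
import Cfsg.Agent.CpAutMSeven.ZeroComps
import Cfsg.Agent.H792.SpHeis_m3
import Cfsg.Agent.FastGrp
import Cfsg.Agent.Prune
set_option linter.all false
prune_inst 0x7f00000000000000000000000000000000000000000000000000000000000000000000000000000000000000000000000000000000000000000000000000000000000000000000000000000000000000003fffffffffffffffffffffffffffbeffbdffffffff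
open scoped Cfsg.Agent.FastGrp

-- part: H794/MonSevenBig
section
/-!
# Sylow 7-subgroups of order `7 ^ 6`: the subgroups `R`, `E` (helper794)

* `nrm`, `triv` : `Γ ∩ N(R)` and its subgroup of the elements trivial on `R / ⟨x⟩`;
* `Dat.odd`, `Dat.nor` : `O = (N ∩ Γ) triv` is normal of odd order in `Γ`; `Dat.exists_lift`;
* `Loc.exists_big`.
-/

set_option autoImplicit false
set_option linter.unusedSectionVars false

namespace Cfsg.Agent.H794.MonSevenBig

open Subgroup Cfsg Cfsg.Agent.H794.MonCore Cfsg.Agent.H794.MonSec Cfsg.Agent.H794.MonSevenLoc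

universe u

variable {G : Type u} [Group G] [Finite G]

/-- the elements of `Γ` normalising `R` -/
def nrm (x z : G) (R : Subgroup G) : Subgroup G := Ga x z ⊓ normalizer (R : Set G)

theorem mem_nrm {x z : G} {R : Subgroup G} {c : G} : c ∈ nrm x z R ↔ c ∈ Ga x z ∧ ∀ r ∈ R, c * r * c⁻¹ ∈ R := by
  rw [nrm, mem_inf]
  refine and_congr_right fun _ => ⟨fun h r hr => (mem_normalizer_iff.1 h r).1 hr, fun h =>
    Transfer.FusionBasic.mem_normalizer_of_conj_mem h⟩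

/-- the elements of `nrm x z R` trivial on `R / ⟨x⟩` -/
def triv (x z : G) (R : Subgroup G) : Subgroup G where
  carrier := {c | c ∈ nrm x z R ∧ ∀ r ∈ R, c * r * c⁻¹ * r⁻¹ ∈ zpowers x}
  one_mem' := ⟨one_mem _, fun r _ => by simp⟩
  mul_mem' := by
    rintro a b ⟨ha, ha'⟩ ⟨hb, hb'⟩
    refine ⟨mul_mem ha hb, fun r hr => ?_⟩
    have h1 := ha' _ ((mem_nrm.1 hb).2 r hr)
    have h2 := mul_mem h1 (hb' r hr)
    rwa [show a * (b * r * b⁻¹) * a⁻¹ * (b * r * b⁻¹)⁻¹ * (b * r * b⁻¹ * r⁻¹) = a * b * r * (a * b)⁻¹ * r⁻¹ by group]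
      at h2
  inv_mem' := by
    rintro a ⟨ha, ha'⟩
    refine ⟨inv_mem ha, fun r hr => ?_⟩
    have h1 := inv_mem (ha' _ ((mem_nrm.1 (inv_mem ha)).2 r hr))
    rwa [show (a * (a⁻¹ * r * a⁻¹⁻¹) * a⁻¹ * (a⁻¹ * r * a⁻¹⁻¹)⁻¹)⁻¹ = a⁻¹ * r * a⁻¹⁻¹ * r⁻¹ by group] at h1

theorem mem_triv {x z : G} {R : Subgroup G} {c : G} :
    c ∈ triv x z R ↔ c ∈ nrm x z R ∧ ∀ r ∈ R, c * r * c⁻¹ * r⁻¹ ∈ zpowers x := Iff.rfl

/-- The setting with `R ≠ ⟨x⟩`. -/
structure Dat (x z : G) (N R : Subgroup G) : Prop where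
  loc : Loc x z
  cfg : Cfg x z N
  syl : Syl 7 z N R
  ne : ∃ r ∈ R, r ∉ zpowers x

variable {x z : G} {N R : Subgroup G}

/-- `N ∩ Γ` -/
theorem Dat.odd_B (h : Dat x z N R) : Odd (Nat.card ↥(N ⊓ Ga x z)) :=
  h.cfg.odd.of_dvd_nat (Subgroup.card_dvd_of_le inf_le_left)

theorem Dat.nor_B (h : Dat x z N R) : ∀ c ∈ Ga x z, ∀ o ∈ N ⊓ Ga x z, c * o * c⁻¹ ∈ N ⊓ Ga x z := fun c hc o ho =>
  mem_inf.2 ⟨h.cfg.nor c (mem_Ga.1 hc).1 o (mem_inf.1 ho).1, mul_mem (mul_mem hc (mem_inf.1 ho).2) (inv_mem hc)⟩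

theorem Dat.x_mem_B (h : Dat x z N R) : x ∈ N ⊓ Ga x z := mem_inf.2 ⟨h.cfg.mem, h.loc.xGa⟩

theorem Dat.xR (h : Dat x z N R) : x ∈ R := h.cfg.mem_syl h.syl h.loc.xP

theorem Dat.Rx (h : Dat x z N R) {r : G} (hr : r ∈ R) : r * x = x * r := h.cfg.cx r (h.syl.le hr)

/-- `C_R(z) = ⟨x⟩` -/
theorem Dat.fixR (h : Dat x z N R) {r : G} (hr : r ∈ R) (hrz : r * z = z * r) : r ∈ zpowers x := by
  obtain ⟨k, hk⟩ := h.syl.isP ⟨r, hr⟩
  exact h.loc.seven_mem h.odd_B inf_le_right h.nor_B h.x_mem_B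
    (mem_inf.2 ⟨h.syl.le hr, mem_Ga.2 ⟨h.Rx hr, hrz⟩⟩) (congrArg Subtype.val hk)

theorem Dat.setup (h : Dat x z N R) : BpMon.Setup x z R where
  tt := by rw [← pow_two, ← h.loc.hz, pow_orderOf_eq_one]
  xc := fun a ha => h.Rx ha
  odd := h.cfg.odd.of_dvd_nat (Subgroup.card_dvd_of_le h.syl.le)
  tO := fun a ha => by
    have h1 := h.syl.inv a ha
    rwa [inv_eq_of_mul_eq_one_left (show z * z = 1 by rw [← pow_two, ← h.loc.hz, pow_orderOf_eq_one])] at h1
  fix := fun a ha haz => h.fixR ha haz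

theorem Dat.comm (h : Dat x z N R) {r s : G} (hr : r ∈ R) (hs : s ∈ R) : r * s * r⁻¹ * s⁻¹ ∈ zpowers x :=
  h.setup.comm_mod h.loc.zx hr hs

theorem Dat.z_notMem (h : Dat x z N R) : z ∉ triv x z R := by
  intro hz
  obtain ⟨r, hr, hrx⟩ := h.ne
  apply hrx
  have hzz : z * z = 1 := by rw [← pow_two, ← h.loc.hz, pow_orderOf_eq_one]
  have h1 := (mem_triv.1 hz).2 r hr
  have h2 := h.setup.inv_mod h.loc.zx hr
  rw [BpMon.sig_eq_conj hzz] at h2
  have h3 : r * r ∈ zpowers x := by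
    have h4 := mul_mem (inv_mem h1) h2
    rwa [show (z * r * z⁻¹ * r⁻¹)⁻¹ * (z * r * z⁻¹ * r) = r * r by
      rw [mul_inv_rev, inv_inv, mul_assoc, inv_mul_cancel_left]] at h4
  have ho := h.setup.odd_order hr
  obtain ⟨m, hm⟩ := ho
  have h5 : (r * r) ^ (m + 1) = r := by
    rw [← pow_two, ← pow_mul, show 2 * (m + 1) = 2 * m + 1 + 1 by ring, ← hm, pow_succ, pow_orderOf_eq_one, one_mul]
  rw [← h5]
  exact pow_mem h3 _

theorem Dat.odd_triv (h : Dat x z N R) : Odd (Nat.card ↥(triv x z R)) := by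
  rw [← Nat.not_even_iff_odd]
  intro he
  have h2 : Fact (Nat.Prime 2) := ⟨Nat.prime_two⟩
  obtain ⟨u, hu⟩ := exists_prime_orderOf_dvd_card' 2 he.two_dvd
  rw [← Subgroup.orderOf_coe] at hu
  have huG := (mem_nrm.1 (mem_triv.1 u.2).1).1
  have huu : (u : G) * u = 1 := by rw [← pow_two, ← hu, pow_orderOf_eq_one]
  rcases h.loc.only u (mem_Ga.1 huG).1 (mem_Ga.1 huG).2 huu with h3 | h3
  · rw [h3, orderOf_one] at hu
    norm_num at hu
  · have h4 : (u : G) ∈ triv x z R := u.2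
    rw [h3] at h4
    exact h.z_notMem h4

theorem nor_triv {k a : G} (hk : k ∈ nrm x z R) (ha : a ∈ triv x z R) : k * a * k⁻¹ ∈ triv x z R := by
  obtain ⟨ha1, ha2⟩ := mem_triv.1 ha
  refine mem_triv.2 ⟨mul_mem (mul_mem hk ha1) (inv_mem hk), fun r hr => ?_⟩
  have h1 := ha2 _ ((mem_nrm.1 (inv_mem hk)).2 r hr)
  have h2 := conj_zpowers_of_comm (mem_Ga.1 (mem_nrm.1 hk).1).1 h1
  rw [← h2] at h1
  rwa [show k * (a * (k⁻¹ * r * k⁻¹⁻¹) * a⁻¹ * (k⁻¹ * r * k⁻¹⁻¹)⁻¹) * k⁻¹ = k * a * k⁻¹ * r * (k * a * k⁻¹)⁻¹ * r⁻¹ by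
    group] at h1

/-- `O = (N ∩ Γ) triv` -/
def OO (x z : G) (N R : Subgroup G) : Subgroup G := (N ⊓ Ga x z) ⊔ triv x z R

theorem Dat.odd (h : Dat x z N R) : Odd (Nat.card ↥(OO x z N R)) := by
  have h1 := H278.ThompsonSurj.card_sup_mul (K := N ⊓ Ga x z) (H := triv x z R) (fun a ha =>
    Transfer.FusionBasic.mem_normalizer_of_conj_mem (h.nor_B a (mem_nrm.1 (mem_triv.1 ha).1).1))
  have h2 : Odd (Nat.card ↥(N ⊓ Ga x z) * Nat.card ↥(triv x z R)) := h.odd_B.mul h.odd_triv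
  rw [← h1] at h2
  exact (Nat.odd_mul.1 h2).1

theorem Dat.OG (_h : Dat x z N R) : OO x z N R ≤ Ga x z :=
  sup_le inf_le_right fun _ ha => (mem_nrm.1 (mem_triv.1 ha).1).1

theorem Dat.nor (h : Dat x z N R) : ∀ c ∈ Ga x z, ∀ o ∈ OO x z N R, c * o * c⁻¹ ∈ OO x z N R := by
  intro c hc o ho
  obtain ⟨b, hb, hbz, k, hkx, hkz, hkR, rfl⟩ := h.cfg.exists_fac h.loc.hz h.loc.zx h.syl (mem_Ga.1 hc).1 (mem_Ga.1 hc).2
  have hk : k ∈ nrm x z R := mem_nrm.2 ⟨mem_Ga.2 ⟨hkx, hkz⟩, hkR⟩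
  have hbO : b ∈ OO x z N R := mem_sup_left (mem_inf.2 ⟨hb, mem_Ga.2 ⟨h.cfg.cx b hb, hbz⟩⟩)
  have h1 : (OO x z N R).map (MulAut.conj k).toMonoidHom ≤ OO x z N R := by
    rw [OO, Subgroup.map_sup]
    refine sup_le ?_ ?_
    · rintro _ ⟨a, ha, rfl⟩
      exact mem_sup_left (h.nor_B k (mem_nrm.1 hk).1 a ha)
    · rintro _ ⟨a, ha, rfl⟩
      exact mem_sup_right (nor_triv hk ha)
  have h2 : k * o * k⁻¹ ∈ OO x z N R := h1 ⟨o, ho, rfl⟩
  have h3 := mul_mem (mul_mem hbO h2) (inv_mem hbO)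
  rwa [show b * (k * o * k⁻¹) * b⁻¹ = b * k * o * (b * k)⁻¹ by group] at h3

/-- elements of prime order of `Γ` outside `O` lift to `q`-elements of `nrm` outside `O` -/
theorem Dat.exists_lift (h : Dat x z N R) {q : ℕ} (hq : q.Prime) {w : G} (hw : w ∈ Ga x z) (hwO : w ∉ OO x z N R)
    (hwq : w ^ q = 1) : ∃ k ∈ nrm x z R, k ∉ OO x z N R ∧ ∃ f : ℕ, k ^ q ^ f = 1 := by
  obtain ⟨b, hb, hbz, k, hkx, hkz, hkR, hwe⟩ :=
    h.cfg.exists_fac h.loc.hz h.loc.zx h.syl (mem_Ga.1 hw).1 (mem_Ga.1 hw).2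
  have hk : k ∈ nrm x z R := mem_nrm.2 ⟨mem_Ga.2 ⟨hkx, hkz⟩, hkR⟩
  have hbB : b ∈ N ⊓ Ga x z := mem_inf.2 ⟨hb, mem_Ga.2 ⟨h.cfg.cx b hb, hbz⟩⟩
  have hkO : k ∉ OO x z N R := fun h1 => hwO (by rw [hwe]; exact mul_mem (mem_sup_left hbB) h1)
  have key : ∀ n : ℕ, ∃ b' ∈ N ⊓ Ga x z, w ^ n = b' * k ^ n := by
    intro n
    induction n with
    | zero => exact ⟨1, one_mem _, by simp⟩
    | succ n ih =>
      obtain ⟨b', hb', e⟩ := ih
      refine ⟨b' * (k ^ n * b * (k ^ n)⁻¹), mul_mem hb' (h.nor_B _ (pow_mem (mem_nrm.1 hk).1 n) b hbB), ?_⟩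
      rw [pow_succ, e, hwe, pow_succ]
      group
  obtain ⟨b', hb', e⟩ := key q
  rw [hwq] at e
  have hkq : k ^ q ∈ OO x z N R := by
    rw [show k ^ q = b'⁻¹ * (b' * k ^ q) by group, ← e, mul_one]
    exact inv_mem (mem_sup_left hb')
  obtain ⟨f, m, hm, hfm⟩ := Nat.exists_eq_pow_mul_and_not_dvd (n := orderOf k) (orderOf_pos k).ne' q hq.ne_one
  refine ⟨k ^ m, pow_mem hk m, fun h1 => hkO ?_, f, ?_⟩
  · have hcop : Nat.Coprime m q := ((Nat.Prime.coprime_iff_not_dvd hq).2 hm).symm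
    have h2 : (Nat.gcd m q : ℤ) = m * Nat.gcdA m q + q * Nat.gcdB m q := Nat.gcd_eq_gcd_ab m q
    rw [hcop] at h2
    have h3 : k = (k ^ m) ^ (Nat.gcdA m q) * (k ^ q) ^ (Nat.gcdB m q) := by
      rw [← zpow_natCast k m, ← zpow_natCast k q, ← zpow_mul, ← zpow_mul, ← zpow_add, ← h2]
      simp
    rw [h3]
    exact mul_mem (zpow_mem h1 _) (zpow_mem hkq _)
  · rw [← pow_mul, mul_comm, ← hfm, pow_orderOf_eq_one]

/-- The subgroups `R` of order `7 ^ 5`, `E` of order `7 ^ 2` and the element `k` of order a power of 5. -/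
structure Big (x z : G) (R E : Subgroup G) (k : G) : Prop where
  RP : IsPGroup 7 ↥R
  xR : x ∈ R
  Rx : ∀ r ∈ R, r * x = x * r
  comm : ∀ r ∈ R, ∀ s ∈ R, r * s * r⁻¹ * s⁻¹ ∈ zpowers x
  cardR : Nat.card ↥R = 7 ^ 5
  fixR : ∀ r ∈ R, r * z = z * r → r ∈ zpowers x
  EP : IsPGroup 7 ↥E
  xE : x ∈ E
  EG : E ≤ Ga x z
  cardE : Nat.card ↥E = 7 ^ 2
  ER : ∀ e ∈ E, ∀ r ∈ R, e * r * e⁻¹ ∈ R
  Etriv : ∀ e ∈ E, (∀ r ∈ R, e * r * e⁻¹ * r⁻¹ ∈ zpowers x) → e ∈ zpowers x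
  kf : ∃ f : ℕ, k ^ 5 ^ f = 1
  kx : k * x = x * k
  kR : ∀ r ∈ R, k * r * k⁻¹ ∈ R
  kn : ∃ r ∈ R, k * r * k⁻¹ ≠ r

theorem card_zx (h : Loc x z) : Nat.card ↥(zpowers x) = 7 := by rw [Nat.card_zpowers, h.hx]

theorem Dat.exists_five (h : Dat x z N R) : ∃ k ∈ nrm x z R, k ∉ OO x z N R ∧ ∃ f : ℕ, k ^ 5 ^ f = 1 := by
  obtain ⟨f, v, hf5, hv7, hf, hv, hev⟩ := h.loc.fv
  obtain ⟨h1, h2⟩ := notMem_of_even h.odd h.nor hf hv hev
  exact h.exists_lift Nat.prime_five hf h1 hf5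

theorem Dat.exists_seven (h : Dat x z N R) : ∃ k ∈ nrm x z R, k ∉ OO x z N R ∧ ∃ f : ℕ, k ^ 7 ^ f = 1 := by
  obtain ⟨f, v, hf5, hv7, hf, hv, hev⟩ := h.loc.fv
  obtain ⟨h1, h2⟩ := notMem_of_even h.odd h.nor hf hv hev
  exact h.exists_lift (by norm_num) hv h2 hv7

theorem five_ndvd : ∀ i, 1 ≤ i → i ≤ 3 → ¬ 5 ∣ 7 ^ i - 1 := by
  intro i h1 h2
  interval_cases i <;> norm_num

/-- `7 ^ 5` divides `|R|`. -/
theorem Dat.card_R (h : Dat x z N R) : 7 ^ 5 ∣ Nat.card ↥R := by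
  have h7 := prime_seven
  have h5 := prime_five
  obtain ⟨k, hk, hkO, f, hkf⟩ := h.exists_five
  obtain ⟨a, ha⟩ := IsPGroup.iff_card.1 h.syl.isP
  rw [ha]
  apply pow_dvd_pow
  by_contra hlt
  apply hkO
  refine mem_sup_right (mem_triv.2 ⟨hk, ?_⟩)
  exact sec_trivial (p := 7) (q := 5) (m := 3) (by norm_num) five_ndvd h.syl.isP (zpowers_le.2 h.xR)
    (by rw [ha, card_zx h.loc, ← pow_succ]; exact pow_dvd_pow 7 (by omega))
    (fun b hb a ha => by rw [conj_zpowers_of_comm (h.Rx hb) ha]; exact ha) hkf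
    (fun a ha => by rw [conj_zpowers_of_comm (mem_Ga.1 (mem_nrm.1 hk).1).1 ha]; exact ha) (mem_nrm.1 hk).2

theorem Dat.exists_big (h : Dat x z N R) (h7 : ¬ 7 ^ 7 ∣ Nat.card G) : ∃ E k, Big x z R E k := by
  have hf7 := prime_seven
  obtain ⟨k, hk, hkO, f, hkf⟩ := h.exists_five
  obtain ⟨l, hl, hlO, g, hlg⟩ := h.exists_seven
  have hlx := (mem_Ga.1 (mem_nrm.1 hl).1).1
  have hEP : IsPGroup 7 ↥(zpowers x ⊔ zpowers l) := isPGroup_two hlx h.loc.xP (isPGroup_zpowers hlg)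
  have hxE : x ∈ zpowers x ⊔ zpowers l := mem_sup_left (mem_zpowers x)
  have hxn : x ∈ nrm x z R := mem_nrm.2 ⟨h.loc.xGa, fun r hr => mul_mem (mul_mem h.xR hr) (inv_mem h.xR)⟩
  have hEn : zpowers x ⊔ zpowers l ≤ nrm x z R := sup_le (zpowers_le.2 hxn) (zpowers_le.2 hl)
  have hEG : zpowers x ⊔ zpowers l ≤ Ga x z := hEn.trans inf_le_left
  have hxO : x ∈ OO x z N R := mem_sup_left h.x_mem_B
  have hlx' : l ∉ zpowers x := fun h1 => hlO ((zpowers_le.2 hxO) h1)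
  have hcE : Nat.card ↥(zpowers x ⊔ zpowers l) = 7 ^ 2 :=
    card_eq_pow hEG hEP (sq_dvd_of_notMem hEP h.loc.hx hxE (mem_sup_right (mem_zpowers l)) hlx') h.loc.cGa
  -- `R ∩ E = ⟨x⟩`
  have hinf : R ⊓ (zpowers x ⊔ zpowers l) = zpowers x := by
    refine le_antisymm (fun r hr => ?_) (le_inf (zpowers_le.2 h.xR) le_sup_left)
    exact h.fixR (mem_inf.1 hr).1 (mem_Ga.1 (hEG (mem_inf.1 hr).2)).2
  have hER : zpowers x ⊔ zpowers l ≤ normalizer (R : Set G) := hEn.trans inf_le_right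
  have hcard := H278.ThompsonSurj.card_sup_mul (K := R) (H := zpowers x ⊔ zpowers l) hER
  rw [hinf, card_zx h.loc, hcE] at hcard
  have hRc := h.card_R
  obtain ⟨a, ha⟩ := IsPGroup.iff_card.1 h.syl.isP
  have hcR : Nat.card ↥R = 7 ^ 5 := by
    have h1 : 5 ≤ a := by
      rw [ha] at hRc
      exact (Nat.pow_dvd_pow_iff_le_right (by norm_num : 1 < 7)).1 hRc
    have h2 : a ≤ 5 := by
      by_contra hlt
      apply h7
      have h3 : Nat.card ↥(R ⊔ (zpowers x ⊔ zpowers l)) = 7 ^ (a + 1) := by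
        rw [ha] at hcard
        have h4 : Nat.card ↥(R ⊔ (zpowers x ⊔ zpowers l)) * 7 = 7 ^ (a + 1) * 7 := by
          rw [hcard]; ring
        exact Nat.eq_of_mul_eq_mul_right (by norm_num) h4
      exact (pow_dvd_pow 7 (by omega)).trans (h3 ▸ Subgroup.card_subgroup_dvd_card _)
    rw [ha, le_antisymm h2 h1]
  refine ⟨zpowers x ⊔ zpowers l, k, ?_⟩
  exact
    { RP := h.syl.isP
      xR := h.xR
      Rx := fun r hr => h.Rx hr
      comm := fun r hr s hs => h.comm hr hs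
      cardR := hcR
      fixR := fun r hr hrz => h.fixR hr hrz
      EP := hEP
      xE := hxE
      EG := hEG
      cardE := hcE
      ER := fun e he r hr => (mem_nrm.1 (hEn he)).2 r hr
      Etriv := fun e he htr => by
        obtain ⟨j, hj⟩ := hEP ⟨e, he⟩
        exact h.loc.seven_mem h.odd h.OG h.nor hxO (mem_sup_right (mem_triv.2 ⟨hEn he, htr⟩)) (congrArg Subtype.val hj)
      kf := ⟨f, hkf⟩
      kx := (mem_Ga.1 (mem_nrm.1 hk).1).1
      kR := (mem_nrm.1 hk).2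
      kn := by
        by_contra hcon
        push Not at hcon
        apply hkO
        refine mem_sup_right (mem_triv.2 ⟨hk, fun r hr => ?_⟩)
        rw [hcon r hr, mul_inv_cancel]
        exact one_mem _ }

/-- **The subgroups `R` and `E`.** -/
theorem exists_big_of (h : Loc x z) (h7 : ¬ 7 ^ 7 ∣ Nat.card G)
    (h3 : 7 ^ 3 ∣ Nat.card ↥(centralizer ({x} : Set G))) : ∃ R E k, Big x z R E k := by
  have hf7 := prime_seven
  have hxo : Odd (orderOf x) := by rw [h.hx]; decide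
  obtain ⟨N, hN⟩ := exists_cfg h.hz hxo h.zx h.only
  obtain ⟨R, hR⟩ := hN.exists_sylow h.hz h.zx 7
  have hxR := hN.mem_syl hR h.xP
  have hne : ∃ r ∈ R, r ∉ zpowers x := by
    by_contra hcon
    push Not at hcon
    have hRx : R = zpowers x := le_antisymm hcon (zpowers_le.2 hxR)
    have h1 : ¬ 7 ^ (1 + 1) ∣ Nat.card ↥N := fun h1 => by
      have h2 := hR.dvd 2 h1
      rw [hRx, card_zx h] at h2
      norm_num at h2
    have h2 := not_pow_dvd_mul (by norm_num : Nat.Prime 7) Nat.card_pos.ne' Nat.card_pos.ne' h1 h.cGa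
    apply h2
    rw [Ga, ← hN.card_cent]
    have h4 : 7 ∣ Nat.card ↥(N ⊓ (centralizer ({x} : Set G) ⊓ centralizer ({z} : Set G))) := by
      rw [← card_zx h]
      exact Subgroup.card_dvd_of_le (zpowers_le.2 (mem_inf.2 ⟨hN.mem, h.xGa⟩))
    exact Nat.mul_dvd_mul h3 h4
  obtain ⟨E, k, hb⟩ := (Dat.mk h hN hR hne).exists_big h7
  exact ⟨R, E, k, hb⟩

end Cfsg.Agent.H794.MonSevenBig
end

-- part: H794/MonSevenTop
section
/-!
# Sylow 7-subgroups of order `7 ^ 6`: strongly closed subgroups (helper794)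

`Hyp.full` : `Full 7 G`.
-/

set_option autoImplicit false
set_option linter.unusedSectionVars false

namespace Cfsg.Agent.H794.MonSevenBig

open Subgroup Cfsg Cfsg.Agent.H794.MonCore Cfsg.Agent.H794.MonSec Cfsg.Agent.H794.MonSevenLoc

universe u

variable {G : Type u} [Group G] [Finite G] {x z k : G} {R E : Subgroup G}

/-- Centre of a group: closure under commuting generators. -/
theorem comm_sup {A : Subgroup G} {y : G} (hA : ∀ a ∈ A, ∀ b ∈ A, a * b = b * a) (hy : ∀ a ∈ A, a * y = y * a) :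
    ∀ u ∈ A ⊔ zpowers y, ∀ v ∈ A ⊔ zpowers y, u * v = v * u := by
  have h1 : A ⊔ zpowers y ≤ centralizer (A : Set G) := by
    refine sup_le (fun u hu => mem_centralizer_iff.2 fun v hv => hA v hv u hu) (zpowers_le.2 ?_)
    exact mem_centralizer_iff.2 fun v hv => hy v hv
  have h3 : A ⊔ zpowers y ≤ centralizer ({y} : Set G) :=
    sup_le (fun u hu => mem_centralizer_singleton_iff.2 (hy u hu)) (zpowers_le.2 (mem_centralizer_singleton_iff.2 rfl))
  have h2 : A ⊔ zpowers y ≤ centralizer ((A ⊔ zpowers y : Subgroup G) : Set G) := by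
    refine sup_le (fun u hu => mem_centralizer_iff.2 fun v hv => ?_) (zpowers_le.2 ?_)
    · exact ((mem_centralizer_iff.1 (h1 hv)) u hu).symm
    · exact mem_centralizer_iff.2 fun v hv => mem_centralizer_singleton_iff.1 (h3 hv)
  exact fun u hu v hv => (mem_centralizer_iff.1 (h2 hv)) u hu

/-- **Irreducibility.** -/
theorem Big.irr (h : Big x z R E k) (hL : Loc x z) {W : Subgroup G} (hxW : x ∈ W) (hWR : W ≤ R)
    (hk : ∀ w ∈ W, k * w * k⁻¹ ∈ W) : W = zpowers x ∨ W = R := by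
  have h7 := prime_seven
  have h5 := prime_five
  obtain ⟨f, hkf⟩ := h.kf
  have hWP : IsPGroup 7 ↥W := h.RP.to_le hWR
  obtain ⟨j, hj⟩ := IsPGroup.iff_card.1 hWP
  by_cases hj1 : j ≤ 1
  · left
    refine (Subgroup.eq_of_le_of_card_ge (zpowers_le.2 hxW) ?_).symm
    rw [hj, card_zx hL]
    calc 7 ^ j ≤ 7 ^ 1 := Nat.pow_le_pow_right (by norm_num) hj1
      _ = 7 := pow_one 7
  by_cases hj5 : 5 ≤ j
  · right
    refine Subgroup.eq_of_le_of_card_ge hWR ?_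
    rw [hj, h.cardR]
    exact Nat.pow_le_pow_right (by norm_num) hj5
  exfalso
  have hzW : ∀ c : G, c * x = x * c → ∀ a ∈ zpowers x, c * a * c⁻¹ ∈ zpowers x := fun c hc a ha => by
    rw [conj_zpowers_of_comm hc ha]; exact ha
  have hRW : ∀ b ∈ R, ∀ a ∈ W, b * a * b⁻¹ ∈ W := fun b hb a ha => by
    have h1 := mul_mem ((zpowers_le.2 hxW) (h.comm b hb a (hWR ha))) ha
    rwa [inv_mul_cancel_right] at h1
  have hcop : (5 ^ f).Coprime 7 := Nat.Coprime.pow_left f (by norm_num)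
  -- `k` is trivial on `W`
  have h1 := sec_trivial (p := 7) (q := 5) (m := 3) (by norm_num) five_ndvd hWP (zpowers_le.2 hxW)
    (by rw [hj, card_zx hL, ← pow_succ]; exact pow_dvd_pow 7 (by omega))
    (fun b hb a ha => hzW b (h.Rx b (hWR hb)) a ha) hkf (hzW k h.kx) hk
  have h2 := cent_of_chain (A := zpowers x) (B := W) hWP hkf hcop (fun a ha => conj_zpowers_of_comm h.kx ha)
    (zpowers_le.2 hxW) h1
  have h3 := sec_trivial (p := 7) (q := 5) (m := 3) (by norm_num) five_ndvd h.RP hWR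
    (by rw [hj, h.cardR, ← pow_add]; exact pow_dvd_pow 7 (by omega)) hRW hkf hk h.kR
  have h4 := cent_of_chain (A := W) (B := R) h.RP hkf hcop h2 hWR h3
  obtain ⟨r, hr, hne⟩ := h.kn
  exact hne (h4 r hr)

/-- `R ∩ E = ⟨x⟩` -/
theorem Big.inf_eq (h : Big x z R E k) : R ⊓ E = zpowers x := by
  refine le_antisymm (fun r hr => ?_) (le_inf (zpowers_le.2 h.xR) (zpowers_le.2 h.xE))
  exact h.fixR r (mem_inf.1 hr).1 (mem_Ga.1 (h.EG (mem_inf.1 hr).2)).2

theorem Big.E_le (h : Big x z R E k) : E ≤ normalizer (R : Set G) := fun e he =>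
  Transfer.FusionBasic.mem_normalizer_of_conj_mem (h.ER e he)

theorem Big.card_S (h : Big x z R E k) (hL : Loc x z) : Nat.card ↥(R ⊔ E) = 7 ^ 6 := by
  have hcard := H278.ThompsonSurj.card_sup_mul (K := R) (H := E) h.E_le
  rw [h.inf_eq, card_zx hL, h.cardR, h.cardE] at hcard
  have h4 : Nat.card ↥(R ⊔ E) * 7 = 7 ^ 6 * 7 := by rw [hcard]; norm_num
  exact Nat.eq_of_mul_eq_mul_right (by norm_num) h4

theorem Big.SR (h : Big x z R E k) {s : G} (hs : s ∈ R ⊔ E) {r : G} (hr : r ∈ R) : s * r * s⁻¹ ∈ R := by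
  have h1 : R ⊔ E ≤ normalizer (R : Set G) := sup_le le_normalizer h.E_le
  exact (mem_normalizer_iff.1 (h1 hs) r).1 hr

/-- elements of `R E` are products -/
theorem exists_mul_of_norm {R E : Subgroup G} (hn : ∀ e ∈ E, ∀ r ∈ R, e * r * e⁻¹ ∈ R) {s : G} (hs : s ∈ R ⊔ E) :
    ∃ r ∈ R, ∃ e ∈ E, s = r * e := by
  let T : Subgroup G :=
    { carrier := {s | ∃ r ∈ R, ∃ e ∈ E, s = r * e}
      one_mem' := ⟨1, one_mem _, 1, one_mem _, (mul_one 1).symm⟩
      mul_mem' := by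
        rintro _ _ ⟨r, hr, e, he, rfl⟩ ⟨r', hr', e', he', rfl⟩
        exact ⟨r * (e * r' * e⁻¹), mul_mem hr (hn e he r' hr'), e * e', mul_mem he he', by group⟩
      inv_mem' := by
        rintro _ ⟨r, hr, e, he, rfl⟩
        exact ⟨e⁻¹ * r⁻¹ * e⁻¹⁻¹, hn _ (inv_mem he) _ (inv_mem hr), e⁻¹, inv_mem he, by group⟩ }
  have h1 : R ⊔ E ≤ T := sup_le (fun r hr => ⟨r, hr, 1, one_mem _, (mul_one r).symm⟩)
    (fun e he => ⟨1, one_mem _, e, he, (one_mul e).symm⟩)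
  exact h1 hs

/-- a conjugate of `x` in `E` outside `⟨x⟩` -/
theorem Big.exists_conj (h : Big x z R E k) (hL : Loc x z) : ∃ g : G, g * x * g⁻¹ ∈ E ∧ g * x * g⁻¹ ∉ zpowers x := by
  have h7 := prime_seven
  obtain ⟨g, hg, hgx⟩ := hL.cj
  have hP : IsPGroup 7 ↥(zpowers (g * x * g⁻¹)) := isPGroup_zpowers (k := 1) (by
    rw [pow_one, conj_pow, ← hL.hx, pow_orderOf_eq_one, mul_one, mul_inv_cancel])
  obtain ⟨d, hd, hdv⟩ := exists_conj_le (D := Ga x z) (k := 2) h.EG h.EP (by rw [h.cardE]) hL.cGa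
    (Q := zpowers (g * x * g⁻¹)) (zpowers_le.2 hg) hP
  have h1 := hdv _ (mem_zpowers _)
  refine ⟨d * g, by rwa [show d * g * x * (d * g)⁻¹ = d * (g * x * g⁻¹) * d⁻¹ by group], fun h2 => hgx ?_⟩
  have h3 := conj_zpowers_of_comm (mem_Ga.1 (inv_mem hd)).1 h2
  rw [show d⁻¹ * (d * g * x * (d * g)⁻¹) * d⁻¹⁻¹ = g * x * g⁻¹ by group] at h3
  rw [h3]
  exact h2

/-- `S = R E` is a 7-group. -/
theorem Big.SP (h : Big x z R E k) (hL : Loc x z) : IsPGroup 7 ↥(R ⊔ E) := IsPGroup.of_card (h.card_S hL)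

/-- An element with a small centralizer and a nonabelian 7-subgroup in it. -/
def Sm (r : G) (A : Subgroup G) : Prop :=
  IsPGroup 7 ↥A ∧ r ∈ A ∧ (∀ a ∈ A, a * r = r * a) ∧ (∃ a ∈ A, ∃ b ∈ A, a * b ≠ b * a) ∧
    ¬ 7 ^ 5 ∣ Nat.card ↥(centralizer ({r} : Set G))

/-- `R` is not abelian. -/
theorem Big.not_comm (h : Big x z R E k) (hL : Loc x z) (h7 : ¬ 7 ^ 7 ∣ Nat.card G) {r : G} {A : Subgroup G}
    (hr : Sm r A) : ¬ ∀ a ∈ R, ∀ b ∈ R, a * b = b * a := by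
  intro hab
  have hf7 := prime_seven
  obtain ⟨hAP, hrA, hAr, ⟨a, ha, b, hb, hne⟩, hcr⟩ := hr
  obtain ⟨g, -, hg⟩ := exists_conj_le (D := (⊤ : Subgroup G)) (k := 6) le_top (h.SP hL) (by rw [h.card_S hL])
    (by rw [Subgroup.card_top]; exact h7) (Q := A) le_top hAP
  -- `g r g⁻¹` is not in `R`
  have hr1 : g * r * g⁻¹ ∉ R := by
    intro h1
    apply hcr
    have h2 : R.map (MulAut.conj g⁻¹).toMonoidHom ≤ centralizer ({r} : Set G) := by
      rintro _ ⟨s, hs, rfl⟩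
      rw [mem_centralizer_singleton_iff]
      show g⁻¹ * s * g⁻¹⁻¹ * r = r * (g⁻¹ * s * g⁻¹⁻¹)
      have h3 := hab s hs _ h1
      calc g⁻¹ * s * g⁻¹⁻¹ * r = g⁻¹ * (s * (g * r * g⁻¹)) * g := by group
        _ = g⁻¹ * ((g * r * g⁻¹) * s) * g := by rw [h3]
        _ = r * (g⁻¹ * s * g⁻¹⁻¹) := by group
    refine Dvd.dvd.trans ?_ (Subgroup.card_dvd_of_le h2)
    rw [Subgroup.card_map_of_injective (MulAut.conj g⁻¹).injective, h.cardR]
  -- `S = R ⟨g r g⁻¹⟩`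
  have hrS : g * r * g⁻¹ ∈ R ⊔ E := hg r hrA
  have hS : R ⊔ zpowers (g * r * g⁻¹) = R ⊔ E := by
    have hle : R ⊔ zpowers (g * r * g⁻¹) ≤ R ⊔ E := sup_le le_sup_left (zpowers_le.2 hrS)
    refine Subgroup.eq_of_le_of_card_ge hle ?_
    obtain ⟨n, hn⟩ := IsPGroup.iff_card.1 ((h.SP hL).to_le hle)
    rw [h.card_S hL, hn]
    refine Nat.pow_le_pow_right (by norm_num) ?_
    by_contra hlt
    apply hr1
    have h1 : R = R ⊔ zpowers (g * r * g⁻¹) := by
      refine Subgroup.eq_of_le_of_card_ge le_sup_left ?_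
      rw [hn, h.cardR]
      exact Nat.pow_le_pow_right (by norm_num) (by omega)
    rw [h1]
    exact mem_sup_right (mem_zpowers _)
  have hdec : ∀ c ∈ A, ∃ ρ ∈ R, ∃ i : ℤ, g * c * g⁻¹ = ρ * (g * r * g⁻¹) ^ i ∧ ρ * (g * r * g⁻¹) = (g * r * g⁻¹) * ρ := by
    intro c hc
    have h1 := hg c hc
    rw [← hS] at h1
    obtain ⟨ρ, hρ, e, he, hce⟩ := exists_mul_of_norm (R := R) (E := zpowers (g * r * g⁻¹)) (by
      intro e he s hs
      exact h.SR ((zpowers_le.2 hrS) he) hs) h1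
    obtain ⟨i, rfl⟩ := mem_zpowers_iff.1 he
    refine ⟨ρ, hρ, i, hce, ?_⟩
    have h2 : ρ = g * c * g⁻¹ * ((g * r * g⁻¹) ^ i)⁻¹ := by rw [hce, mul_inv_cancel_right]
    have h3 : Commute (g * c * g⁻¹) (g * r * g⁻¹) := by
      show g * c * g⁻¹ * (g * r * g⁻¹) = g * r * g⁻¹ * (g * c * g⁻¹)
      calc g * c * g⁻¹ * (g * r * g⁻¹) = g * (c * r) * g⁻¹ := by group
        _ = g * (r * c) * g⁻¹ := by rw [hAr c hc]
        _ = _ := by group
    have h4 : Commute (((g * r * g⁻¹) ^ i)⁻¹) (g * r * g⁻¹) := (Commute.zpow_self (g * r * g⁻¹) i).inv_left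
    rw [h2]
    exact (h3.mul_left h4).eq
  obtain ⟨ρ, hρ, i, hae, hρr⟩ := hdec a ha
  obtain ⟨σ, hσ, j, hbe, hσr⟩ := hdec b hb
  have h1 : Commute ρ σ := hab ρ hρ σ hσ
  have h2 : Commute ρ ((g * r * g⁻¹) ^ j) := (show Commute ρ (g * r * g⁻¹) from hρr).zpow_right j
  have h3 : Commute σ ((g * r * g⁻¹) ^ i) := (show Commute σ (g * r * g⁻¹) from hσr).zpow_right i
  have h4 : Commute ((g * r * g⁻¹) ^ i) ((g * r * g⁻¹) ^ j) := Commute.zpow_zpow_self _ i j
  have h5 : Commute (g * a * g⁻¹) (g * b * g⁻¹) := by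
    rw [hae, hbe]
    exact (h1.mul_right h2).mul_left (h3.symm.mul_right h4)
  apply hne
  have h6 : g * (a * b) * g⁻¹ = g * (b * a) * g⁻¹ := by
    calc g * (a * b) * g⁻¹ = (g * a * g⁻¹) * (g * b * g⁻¹) := by group
      _ = (g * b * g⁻¹) * (g * a * g⁻¹) := h5
      _ = _ := by group
  exact mul_left_cancel (mul_right_cancel h6)

/-- **Strongly closed subgroups of `S`.** -/
theorem Big.closed (h : Big x z R E k) (hL : Loc x z) (h7 : ¬ 7 ^ 7 ∣ Nat.card G) {r : G} {A : Subgroup G}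
    (hr : Sm r A) {T : Subgroup G} (hTS : T ≤ R ⊔ E)
    (hcl : ∀ n : G, ∀ a ∈ T, n * a * n⁻¹ ∈ R ⊔ E → n * a * n⁻¹ ∈ T) : T = ⊥ ∨ T = R ⊔ E := by
  have hf7 := prime_seven
  by_cases hT : T = ⊥
  · exact Or.inl hT
  right
  obtain ⟨g, hgE, hgx⟩ := h.exists_conj hL
  have hgS : g * x * g⁻¹ ∈ R ⊔ E := mem_sup_right hgE
  have hRS : R ≤ R ⊔ E := le_sup_left
  have hST : ∀ s ∈ R ⊔ E, ∀ t ∈ T, s * t * s⁻¹ ∈ T := fun s hs t ht =>
    hcl s t ht (mul_mem (mul_mem hs (hTS ht)) (inv_mem hs))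
  -- the subgroup `W`
  have hWR : T ⊓ R ⊔ zpowers x ≤ R := sup_le inf_le_right (zpowers_le.2 h.xR)
  have hxW : x ∈ T ⊓ R ⊔ zpowers x := mem_sup_right (mem_zpowers x)
  have hkW : ∀ w ∈ T ⊓ R ⊔ zpowers x, k * w * k⁻¹ ∈ T ⊓ R ⊔ zpowers x := by
    intro w hw
    have h1 : (T ⊓ R ⊔ zpowers x).map (MulAut.conj k).toMonoidHom ≤ T ⊓ R ⊔ zpowers x := by
      rw [Subgroup.map_sup]
      refine sup_le ?_ ?_
      · rintro _ ⟨t, ht, rfl⟩
        have h2 : k * t * k⁻¹ ∈ R := h.kR t (mem_inf.1 ht).2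
        exact mem_sup_left (mem_inf.2 ⟨hcl k t (mem_inf.1 ht).1 (hRS h2), h2⟩)
      · rintro _ ⟨t, ht, rfl⟩
        refine mem_sup_right ?_
        show k * t * k⁻¹ ∈ zpowers x
        rw [conj_zpowers_of_comm h.kx ht]
        exact ht
    exact h1 ⟨w, hw, rfl⟩
  rcases h.irr hL hxW hWR hkW with hW | hW
  · -- `W = ⟨x⟩`
    exfalso
    have hTR : T ≤ R := by
      intro t ht
      obtain ⟨ρ, hρ, e, he, hte⟩ := exists_mul_of_norm h.ER (hTS ht)
      have hex : e ∈ zpowers x := by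
        apply h.Etriv e he
        intro s hs
        have h1 : t * s * t⁻¹ * s⁻¹ ∈ zpowers x := by
          rw [← hW]
          refine mem_sup_left (mem_inf.2 ⟨?_, mul_mem (h.SR (hTS ht) hs) (inv_mem hs)⟩)
          rw [show t * s * t⁻¹ * s⁻¹ = t * (s * t⁻¹ * s⁻¹) by group]
          exact mul_mem ht (hST s (hRS hs) _ (inv_mem ht))
        -- `e = ρ⁻¹ t`
        have h2 : ρ⁻¹ * s * ρ⁻¹⁻¹ * s⁻¹ ∈ zpowers x := h.comm _ (inv_mem hρ) s hs
        have h3 := mul_mem h1 h2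
        have h4 : ρ⁻¹ * (t * s * t⁻¹ * s⁻¹) * ρ⁻¹⁻¹ = t * s * t⁻¹ * s⁻¹ := conj_zpowers_of_comm (h.Rx _ (inv_mem hρ)) h1
        rw [← h4] at h3
        rwa [show ρ⁻¹ * (t * s * t⁻¹ * s⁻¹) * ρ⁻¹⁻¹ * (ρ⁻¹ * s * ρ⁻¹⁻¹ * s⁻¹) = (ρ⁻¹ * t) * s * (ρ⁻¹ * t)⁻¹ * s⁻¹ by group,
          hte, inv_mul_cancel_left] at h3
      rw [hte]
      exact mul_mem hρ ((zpowers_le.2 h.xR) hex)
    have hTx : T ≤ zpowers x := by
      rw [← hW]
      exact fun t ht => mem_sup_left (mem_inf.2 ⟨ht, hTR ht⟩)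
    have hTe : T = zpowers x := by
      refine Subgroup.eq_of_le_of_card_ge hTx ?_
      rw [card_zx hL]
      have h1 : Nat.card ↥T ∣ 7 := by rw [← card_zx hL]; exact Subgroup.card_dvd_of_le hTx
      rcases (Nat.dvd_prime (by norm_num : Nat.Prime 7)).1 h1 with h2 | h2
      · exact absurd (Subgroup.card_eq_one.1 h2) hT
      · exact h2.ge
    have h1 := hcl g x (by rw [hTe]; exact mem_zpowers x) hgS
    rw [hTe] at h1
    exact hgx h1
  · by_cases hxT : x ∈ T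
    · have hRT : R ≤ T := by
        rw [← hW]
        exact sup_le inf_le_left (zpowers_le.2 hxT)
      refine Subgroup.eq_of_le_of_card_ge hTS ?_
      obtain ⟨n, hn⟩ := IsPGroup.iff_card.1 ((h.SP hL).to_le hTS)
      rw [h.card_S hL, hn]
      refine Nat.pow_le_pow_right (by norm_num) ?_
      by_contra hlt
      have h1 : R = T := by
        refine Subgroup.eq_of_le_of_card_ge hRT ?_
        rw [hn, h.cardR]
        exact Nat.pow_le_pow_right (by norm_num) (by omega)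
      have h2 := hcl g x hxT hgS
      rw [← h1] at h2
      apply hgx
      exact h.fixR _ h2 (mem_Ga.1 (h.EG hgE)).2
    · exfalso
      apply h.not_comm hL h7 hr
      have h1 : ∀ a ∈ T ⊓ R, ∀ b ∈ T ⊓ R, a * b = b * a := by
        intro a ha b hb
        have h2 := h.comm a (mem_inf.1 ha).2 b (mem_inf.1 hb).2
        have h3 : a * b * a⁻¹ * b⁻¹ ∈ T := mul_mem (mul_mem (mul_mem (mem_inf.1 ha).1 (mem_inf.1 hb).1)
          (inv_mem (mem_inf.1 ha).1)) (inv_mem (mem_inf.1 hb).1)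
        have h4 : a * b * a⁻¹ * b⁻¹ = 1 := by
          by_contra hne
          apply hxT
          have h5 : zpowers (a * b * a⁻¹ * b⁻¹) = zpowers x := by
            refine Subgroup.eq_of_le_of_card_ge (zpowers_le.2 h2) ?_
            rw [card_zx hL]
            have h6 : Nat.card ↥(zpowers (a * b * a⁻¹ * b⁻¹)) ∣ 7 := by
              rw [← card_zx hL]; exact Subgroup.card_dvd_of_le (zpowers_le.2 h2)
            rcases (Nat.dvd_prime (by norm_num : Nat.Prime 7)).1 h6 with h8 | h8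
            · rw [Nat.card_zpowers, orderOf_eq_one_iff] at h8
              exact absurd h8 hne
            · exact h8.ge
          exact (zpowers_le.2 h3) (by rw [h5]; exact mem_zpowers x)
        rw [mul_inv_eq_one, mul_inv_eq_iff_eq_mul] at h4
        exact h4
      have h2 := comm_sup h1 (y := x) (fun a ha => h.Rx a (mem_inf.1 ha).2)
      rw [hW] at h2
      exact h2

/-! ### The theorem -/

/-- The hypotheses on `G`. -/
structure Hyp (z : G) : Prop where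
  cases : ∀ e : G, orderOf e = 7 → e * z = z * e → Loc e z ∨ ¬ 7 ^ 5 ∣ Nat.card ↥(centralizer ({e} : Set G))
  ex : ∃ x : G, Loc x z
  h6 : 7 ^ 6 ∣ Nat.card G
  h7 : ¬ 7 ^ 7 ∣ Nat.card G
  sm : ∃ (r : G) (A : Subgroup G), Sm r A

theorem Hyp.exists_loc (h : Hyp z) : ∃ x : G, Loc x z ∧ 7 ^ 3 ∣ Nat.card ↥(centralizer ({x} : Set G)) := by
  have hf7 := prime_seven
  obtain ⟨x, hx⟩ := h.ex
  by_cases h3 : 7 ^ 3 ∣ Nat.card ↥(centralizer ({x} : Set G))
  · exact ⟨x, hx, h3⟩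
  -- a subgroup `E` of order 49 of `Γ`
  obtain ⟨f, v, hf5, hv7, hf, hv, hev⟩ := hx.fv
  have hvx : v ∉ zpowers x := by
    intro h1
    have h2 : f * v * f⁻¹ * v⁻¹ = 1 := by
      rw [conj_zpowers_of_comm (mem_Ga.1 hf).1 h1, mul_inv_cancel]
    rw [h2, orderOf_one] at hev
    exact absurd hev (by decide)
  have hEP : IsPGroup 7 ↥(zpowers x ⊔ zpowers v) := isPGroup_two (mem_Ga.1 hv).1 hx.xP
    (isPGroup_zpowers (k := 1) (by rw [pow_one, hv7]))
  have hEG : zpowers x ⊔ zpowers v ≤ Ga x z := sup_le (zpowers_le.2 hx.xGa) (zpowers_le.2 hv)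
  have hcE : 7 ^ 2 ∣ Nat.card ↥(zpowers x ⊔ zpowers v) :=
    sq_dvd_of_notMem hEP hx.hx (mem_sup_left (mem_zpowers x)) (mem_sup_right (mem_zpowers v)) hvx
  obtain ⟨P, hP⟩ := hEP.exists_le_sylow
  -- a central element of order 7 of `P`
  have hPc : Nat.card ↥(P : Subgroup G) = 7 ^ 6 :=
    card_eq_pow (D := ⊤) le_top P.2 (P.pow_dvd_card_of_pow_dvd_card h.h6) (by rw [Subgroup.card_top]; exact h.h7)
  have hnt : Nontrivial ↥(P : Subgroup G) := by
    rw [← Finite.one_lt_card_iff_nontrivial, hPc]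
    norm_num
  have hcn : Nontrivial ↥(center ↥(P : Subgroup G)) := P.2.center_nontrivial
  have hcd : 7 ∣ Nat.card ↥(center ↥(P : Subgroup G)) := by
    obtain ⟨n, hn⟩ := IsPGroup.iff_card.1 (P.2.to_subgroup (center ↥(P : Subgroup G)))
    have h1 : 1 < Nat.card ↥(center ↥(P : Subgroup G)) := Finite.one_lt_card_iff_nontrivial.2 hcn
    rw [hn] at h1 ⊢
    refine dvd_pow_self 7 ?_
    rintro rfl
    simp at h1
  obtain ⟨c, hc⟩ := exists_prime_orderOf_dvd_card' 7 hcd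
  rw [← Subgroup.orderOf_coe, ← Subgroup.orderOf_coe] at hc
  set y : G := ((c : ↥(P : Subgroup G)) : G) with hy
  have hyP : y ∈ (P : Subgroup G) := (c : ↥(P : Subgroup G)).2
  have hyc : ∀ s ∈ (P : Subgroup G), s * y = y * s := fun s hs =>
    congrArg Subtype.val (mem_center_iff.1 c.2 ⟨s, hs⟩)
  -- `y` is in `E`
  have hxP : x ∈ (P : Subgroup G) := hP (mem_sup_left (mem_zpowers x))
  have h4 : zpowers x ⊔ zpowers v = (P : Subgroup G) ⊓ centralizer ({x} : Set G) := by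
    have hle : zpowers x ⊔ zpowers v ≤ (P : Subgroup G) ⊓ centralizer ({x} : Set G) :=
      le_inf hP (hEG.trans inf_le_left)
    refine Subgroup.eq_of_le_of_card_ge hle ?_
    have hP2 : IsPGroup 7 ↥((P : Subgroup G) ⊓ centralizer ({x} : Set G)) := P.2.to_le inf_le_left
    rw [card_eq_pow (k := 2) (D := centralizer ({x} : Set G)) inf_le_right hP2
      (hcE.trans (Subgroup.card_dvd_of_le hle)) h3]
    exact Nat.le_of_dvd Nat.card_pos hcE
  have hyE : y ∈ zpowers x ⊔ zpowers v := by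
    rw [h4]
    exact mem_inf.2 ⟨hyP, mem_centralizer_singleton_iff.2 (hyc x hxP).symm⟩
  have hcy : 7 ^ 6 ∣ Nat.card ↥(centralizer ({y} : Set G)) := by
    rw [← hPc]
    exact Subgroup.card_dvd_of_le fun s hs => mem_centralizer_singleton_iff.2 (hyc s hs)
  refine ⟨y, (h.cases y hc (mem_Ga.1 (hEG hyE)).2).resolve_right fun h5 => h5 ?_, ?_⟩
  · exact (pow_dvd_pow 7 (by norm_num)).trans hcy
  · exact (pow_dvd_pow 7 (by norm_num)).trans hcy

/-- **`Full 7 G`.** -/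
theorem Hyp.full (h : Hyp z) : Full 7 G := by
  have hf7 := prime_seven
  obtain ⟨x, hL, h3⟩ := h.exists_loc
  obtain ⟨R, E, k, hb⟩ := exists_big_of hL h.h7 h3
  obtain ⟨r, A, hr⟩ := h.sm
  obtain ⟨Q, hQ⟩ := (hb.SP hL).exists_le_sylow
  have hQc : Nat.card ↥(Q : Subgroup G) = 7 ^ 6 :=
    card_eq_pow (D := ⊤) le_top Q.2 (Q.pow_dvd_card_of_pow_dvd_card h.h6) (by rw [Subgroup.card_top]; exact h.h7)
  have hQe : R ⊔ E = (Q : Subgroup G) := Subgroup.eq_of_le_of_card_ge hQ (by rw [hQc, hb.card_S hL])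
  refine H794.PslTwo.Full.of_one Q fun T hT hcl => ?_
  rw [← hQe] at hT hcl ⊢
  exact hb.closed hL h.h7 hr hT hcl

end Cfsg.Agent.H794.MonSevenBig
end

-- part: H794/MonSevenHe
section
/-!
# A nonabelian 7-subgroup of the Held group (helper794, words of helper415)
-/

set_option autoImplicit false
set_option maxRecDepth 100000

namespace Cfsg.Agent.H794.MonSevenHe

open Subgroup Cfsg
open Cfsg.Spor.He (Gen)
open Cfsg.Spor.He.Gen
open Cfsg.Agent.SporadicB.HePerm (act wd)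
open Cfsg.Agent.FixBN.HeStab Cfsg.Agent.KFacts.He.Lv Cfsg.Agent.CpAutHe.Cnt
open Cfsg.Agent.H794.MonSevenLoc

/-- A group of Heisenberg type. -/
theorem exists_heis {G : Type*} [Group G] [Finite G] {u v w g h : G} (hu : u ^ 7 = 1) (huv : u * v = w * (v * u))
    (huw : u * w = w * u) (hvw : v * w = w * v) (hw : w ≠ 1) (hg : g * w = u * g) (hh : h * w = v * h) :
    ∃ A : Subgroup G, IsPGroup 7 ↥A ∧ ∃ a ∈ A, ∃ b ∈ A, a * b ≠ b * a := by
  have h7 := prime_seven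
  have ew : w = g⁻¹ * u * g := by rw [mul_assoc, ← hg, inv_mul_cancel_left]
  have ev : v = h * w * h⁻¹ := by rw [hh, mul_inv_cancel_right]
  have hw7 : w ^ 7 = 1 := by
    have h1 := conj_pow (i := 7) (a := g⁻¹) (b := u)
    rw [inv_inv, ← ew, hu] at h1
    rw [h1]; group
  have hv7 : v ^ 7 = 1 := by
    rw [ev, conj_pow, hw7]; group
  have hP : ∀ y : G, y ^ 7 = 1 → IsPGroup 7 ↥(zpowers y) := fun y hy => isPGroup_zpowers (k := 1) (by rw [pow_one, hy])
  have hwv : IsPGroup 7 ↥(zpowers w ⊔ zpowers v) := isPGroup_two hvw (hP w hw7) (hP v hv7)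
  have hn : zpowers u ≤ normalizer ((zpowers w ⊔ zpowers v : Subgroup G) : Set G) := by
    rw [zpowers_le]
    apply Transfer.FusionBasic.mem_normalizer_of_conj_mem
    intro a ha
    have h1 : (zpowers w ⊔ zpowers v).map (MulAut.conj u).toMonoidHom ≤ zpowers w ⊔ zpowers v := by
      rw [Subgroup.map_sup]
      refine sup_le ?_ ?_
      · rw [MonoidHom.map_zpowers, zpowers_le]
        show u * w * u⁻¹ ∈ _
        rw [huw, mul_inv_cancel_right]
        exact mem_sup_left (mem_zpowers w)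
      · rw [MonoidHom.map_zpowers, zpowers_le]
        show u * v * u⁻¹ ∈ _
        rw [huv, ← mul_assoc, mul_inv_cancel_right]
        exact mul_mem (mem_sup_left (mem_zpowers w)) (mem_sup_right (mem_zpowers v))
    exact h1 ⟨a, ha, rfl⟩
  refine ⟨zpowers u ⊔ (zpowers w ⊔ zpowers v), (hP u hu).to_sup_of_normal_right' hwv hn, u,
    mem_sup_left (mem_zpowers u), v, mem_sup_right (mem_sup_right (mem_zpowers v)), fun h1 => hw ?_⟩
  rw [h1] at huv
  have h2 : 1 * (v * u) = w * (v * u) := by rw [one_mul]; exact huv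
  exact (mul_right_cancel h2).symm

theorem exists_of_words {p : ℕ} (U V W Gw Hw : List Gen) (i : Fin 2058) (hp : p = 7)
    (h1 : chkB (pw U p) [] = true) (h2 : chkB (U ++ V) (W ++ (V ++ U)) = true) (h3 : chkB (U ++ W) (W ++ U) = true)
    (h5 : chkB (V ++ W) (W ++ V) = true) (h6 : Nat.beq (act W i) i = false) (h7 : chkB (Gw ++ W) (U ++ Gw) = true)
    (h8 : chkB (Hw ++ W) (V ++ Hw) = true) :
    ∃ A : Subgroup Cfsg.Spor.He, IsPGroup 7 ↥A ∧ ∃ a ∈ A, ∃ b ∈ A, a * b ≠ b * a := by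
  have hfin : Finite Cfsg.Spor.He := finite_he
  have e1 := eq_of_chkB h1
  have e2 := eq_of_chkB h2
  have e3 := eq_of_chkB h3
  have e5 := eq_of_chkB h5
  have e7 := eq_of_chkB h7
  have e8 := eq_of_chkB h8
  rw [wd_pw, wd_nil, hp] at e1
  rw [wd_append, wd_append, wd_append] at e2
  rw [wd_append, wd_append] at e3 e5 e7 e8
  refine exists_heis (u := wd U) (v := wd V) (w := wd W) (g := wd Gw) (h := wd Hw) e1 e2 e3 e5 ?_ e7 e8
  intro he
  rw [act_eq, he, map_one] at h6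
  have h9 : Nat.beq (i : ℕ) (i : ℕ) = true := Nat.beq_refl _
  have h10 : Nat.beq (i : ℕ) (i : ℕ) = false := h6
  rw [h9] at h10
  exact absurd h10 (by decide)

/-- **A nonabelian 7-subgroup of the Held group.** -/
theorem he_seven : ∃ A : Subgroup Cfsg.Spor.He, IsPGroup 7 ↥A ∧ ∃ a ∈ A, ∃ b ∈ A, a * b ≠ b * a := by
  refine exists_of_words (p := 7) [b,d,e,c,b,d,e,c,b,d,e,c]
    [f,d,c,d,c,d,f,b,d,e,c,b,d,e,c,b,d,e,c,f,d,c,d,c,d,f]
    [b,d,e,c,b,d,e,c,b,d,e,c,f,d,c,d,c,d,f,b,d,e,c,b,d,e,c,b,d,e,c,f,d,c,d,c,d,f,c,e,d,b,c,e,d,b,c,e,d,b,f,d,c,d,c,d,f,c,e,d,b,c,e,d,b,c,e,d,b,f,d,c,d,c,d,f]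
    [g,f,d,c,d,e,d,b,c,d,f,b,c,d,c] [b,a,e,d,c,b,g,d,c,d,b,c,d,g,d,b]
    0 rfl ?_ ?_ ?_ ?_ ?_ ?_ ?_
  all_goals decide +kernel

end Cfsg.Agent.H794.MonSevenHe
end

-- part: H794/MonSeven
section
/-!
# The Monster, `p = 7` (helper794)

`fullP_m_seven` : `FullP 7 G` for the Monster.
-/

set_option autoImplicit false
set_option maxRecDepth 100000

namespace Cfsg.Agent.H794.MonSeven

open Subgroup hiding mk
open Cfsg Cfsg.Agent.H794.MonLift Cfsg.Agent.H794.MonSevenLoc Cfsg.Agent.H794.MonSevenBig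
open Cfsg.Agent.LThreeMB (fr XX Zx KChart.Cent KChart.pi KChart.chart)
open Cfsg.Agent.MonsterU Cfsg.Agent.MonsterU.Ch
open Cfsg.Agent.MonsterU.Lam2 (L2)
open Cfsg.Agent.MonsterX
open Cfsg.Agent.SporadicA.Co0Mono (signCo0)
open Cfsg.Agent.SporadicA.Co1Simple (allOne)
open Cfsg.Agent.CoOneType.ClosingFacts (mk mk_mul mk_eq_one neg_eq)
open Cfsg.Spor (Co1)

/-! ### Data in `Co1` -/

/-- the element of order 7 -/
noncomputable def x : Co1 := BpSevenCo.Conj.x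
/-- the element commuting with it -/
noncomputable def y : Co1 := BpSevenCo.Conj.y
/-- the element of order 5 -/
noncomputable def f : Co1 := mk (MonData.e 2)

theorem f_pow : f ^ 5 = 1 := by
  have h := congrArg (QuotientGroup.mk' (center Co0)) MonData.f_pow
  rwa [map_pow, map_one] at h

theorem fx : f * x = x * f := by
  have h := congrArg mk MonData.fx
  rwa [mk_mul, mk_mul] at h

theorem y_pow : y ^ 7 = 1 := BpSevenCo.Conj.y_pow

theorem yx : y * x = x * y := BpSevenCo.Conj.comm_xy.symm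

theorem even_fy : Even (orderOf (f * y * f⁻¹ * y⁻¹)) := by
  have h1 : mk (MonData.e 2 * MonData.e 1 * MonData.e 2 ^ 4 * MonData.e 1 ^ 6) = f * y * f⁻¹ * y⁻¹ := by
    have e1 : f ^ 4 = f⁻¹ := by
      rw [eq_inv_iff_mul_eq_one, ← pow_succ]; exact f_pow
    have e2 : y ^ 6 = y⁻¹ := by
      rw [eq_inv_iff_mul_eq_one, ← pow_succ]; exact y_pow
    rw [← e1, ← e2]
    rfl
  rw [← h1, ← Nat.not_odd_iff_even]
  intro ho
  have h4 : (mk (MonData.e 2 * MonData.e 1 * MonData.e 2 ^ 4 * MonData.e 1 ^ 6)) ^ 4 = 1 := by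
    have h := congrArg (QuotientGroup.mk' (center Co0)) MonData.fy_pow
    rw [map_pow] at h
    exact h.trans MonThirteen.mk_neg
  have h5 : orderOf (mk (MonData.e 2 * MonData.e 1 * MonData.e 2 ^ 4 * MonData.e 1 ^ 6)) = 1 := by
    have h6 := orderOf_dvd_of_pow_eq_one h4
    have h7 : Nat.Coprime (orderOf (mk (MonData.e 2 * MonData.e 1 * MonData.e 2 ^ 4 * MonData.e 1 ^ 6))) 4 :=
      (Nat.coprime_two_right.2 ho).pow_right 2
    exact Nat.Coprime.eq_one_of_dvd h7 h6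
  rw [orderOf_eq_one_iff] at h5
  have h6 := MonThirteen.sq_of_mk h5
  apply Cfsg.Agent.SporadicA.Co0Basic.negCo0_ne_one
  rw [← MonData.fy_pow, show 4 = 2 * 2 by rfl, pow_mul, pow_two (_ * _), h6, one_pow]

/-! ### The chart -/

section chart

variable {G : Type*} [Group G] {Q : Subgroup G} {z : G} {eta : G → L2} {pi : centralizer ({z} : Set G) →* Co1}

theorem exists_lift_pow (h : Chart Q z eta pi) {e : centralizer ({z} : Set G)} (he : e ^ 7 = 1) (hfr : fr (pi e) = 1)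
    {q : ℕ} (hq : Odd q) {s : Co1} (hs : s ^ q = 1) (hse : s * pi e = pi e * s) :
    ∃ c : centralizer ({z} : Set G), pi c = s ∧ (c : G) ^ q = 1 ∧ (c : G) ∈ Ga (e : G) z := by
  obtain ⟨c, hc, rfl⟩ := MFive.exists_lift h (by norm_num : Nat.Prime 7) (by decide) he hse
  have hce : (c : G) * e = e * c := congrArg Subtype.val hc
  have h1 : (c : G) ^ q = 1 ∨ (c : G) ^ q = z := by
    have h2 := eq_of_pi_one h (p := 7) (by decide) he hfr (c := c ^ q) (by rw [map_pow, hs]) (by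
      rw [SubmonoidClass.coe_pow]
      exact ((show Commute (c : G) e from hce).pow_left q).eq)
    rwa [SubmonoidClass.coe_pow] at h2
  obtain ⟨m, hm⟩ := hq
  refine ⟨c ^ (q + 1), ?_, ?_, ?_⟩
  · rw [map_pow, pow_succ, hs, one_mul]
  · rw [SubmonoidClass.coe_pow, ← pow_mul, mul_comm, pow_mul]
    rcases h1 with h2 | h2
    · rw [h2, one_pow]
    · rw [h2, show q + 1 = 2 * (m + 1) by omega, pow_mul, pow_two, h.large.z_sq, one_pow]
  · rw [SubmonoidClass.coe_pow]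
    exact pow_mem (mem_Ga.2 ⟨hce, mem_centralizer_singleton_iff.1 c.2⟩) _

theorem conj_comm {g a b : Co1} (h : a * b = b * a) : (g⁻¹ * a * g) * (g⁻¹ * b * g) = (g⁻¹ * b * g) * (g⁻¹ * a * g) := by
  calc (g⁻¹ * a * g) * (g⁻¹ * b * g) = g⁻¹ * (a * b) * g := by group
    _ = g⁻¹ * (b * a) * g := by rw [h]
    _ = _ := by group

theorem conj_pow' {g a : Co1} (n : ℕ) : (g⁻¹ * a * g) ^ n = g⁻¹ * a ^ n * g := by
  have h := conj_pow (i := n) (a := g⁻¹) (b := a)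
  rwa [inv_inv] at h

/-- **Rank 0.** -/
theorem loc_of [Finite G] (h : Chart Q z eta pi) {e : centralizer ({z} : Set G)} (he : orderOf e = 7)
    (hfr : fr (pi e) = 1)
    (only : ∀ u : G, u * e = e * u → u * z = z * u → u * u = 1 → u = 1 ∨ u = z)
    (cz : ¬ 7 ^ 3 ∣ Nat.card ↥(centralizer ({z} : Set G))) : Loc (e : G) z := by
  have h7 : Nat.Prime 7 := by norm_num
  have he7 : e ^ 7 = 1 := by rw [← he, pow_orderOf_eq_one]
  obtain ⟨g, i, hi, hge⟩ := BpSevenCo.Conj.conj_pow (MFive.orderOf_pi h h7 (by decide) he) hfr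
  have hpe : pi e = g⁻¹ * x ^ i * g := by
    rw [show x = BpSevenCo.Conj.x from rfl, ← hge]; group
  refine ⟨?_, by rw [orderOf_coe, he], (mem_centralizer_singleton_iff.1 e.2).symm, only, ?_, ?_, cz⟩
  · have : Fact (Nat.Prime 2) := ⟨Nat.prime_two⟩
    exact orderOf_eq_prime (by rw [pow_two]; exact h.large.z_sq) h.large.z_ne
  · obtain ⟨F, hF, hF5, hFG⟩ := exists_lift_pow h he7 hfr (q := 5) (by decide) (s := g⁻¹ * f * g)
      (by rw [conj_pow', f_pow]; group) (by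
        rw [hpe]
        exact conj_comm ((show Commute f x from fx).pow_right i).eq)
    obtain ⟨Y, hY, hY7, hYG⟩ := exists_lift_pow h he7 hfr (q := 7) (by decide) (s := g⁻¹ * y * g)
      (by rw [conj_pow', y_pow]; group) (by
        rw [hpe]
        exact conj_comm ((show Commute y x from yx).pow_right i).eq)
    refine ⟨F, Y, hF5, hY7, hFG, hYG, ?_⟩
    have h1 : orderOf (pi (F * Y * F⁻¹ * Y⁻¹)) ∣ orderOf (F * Y * F⁻¹ * Y⁻¹) := orderOf_map_dvd pi _
    have h2 : pi (F * Y * F⁻¹ * Y⁻¹) = g⁻¹ * (f * y * f⁻¹ * y⁻¹) * g := by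
      rw [map_mul, map_mul, map_mul, map_inv, map_inv, hF, hY]
      group
    have h3 : orderOf (g⁻¹ * (f * y * f⁻¹ * y⁻¹) * g) = orderOf (f * y * f⁻¹ * y⁻¹) := by
      have h4 := MulEquiv.orderOf_eq (MulAut.conj g⁻¹) (f * y * f⁻¹ * y⁻¹)
      rwa [MulAut.conj_apply, inv_inv] at h4
    rw [h2, h3] at h1
    rw [← Subgroup.orderOf_coe] at h1
    exact even_iff_two_dvd.2 ((even_iff_two_dvd.1 even_fy).trans h1)
  · obtain ⟨m, hm⟩ := h.pi_surj (g⁻¹ * BpSevenCo.Conj.n * g)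
    have hpe' : pi (m * e * m⁻¹) = g⁻¹ * (x ^ i * y ^ (3 * i)) * g := by
      have h1 : BpSevenCo.Conj.n * x ^ i * BpSevenCo.Conj.n⁻¹ = x ^ i * y ^ (3 * i) := by
        rw [← conj_pow, show x = BpSevenCo.Conj.x from rfl, BpSevenCo.Conj.nxn1, BpSevenCo.Conj.xy_pow]
        rfl
      rw [map_mul, map_mul, map_inv, hm, hpe, ← h1]
      group
    have hcm : pi (m * e * m⁻¹) * pi e = pi e * pi (m * e * m⁻¹) := by
      rw [hpe', hpe]
      refine conj_comm ?_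
      have h1 : Commute (x ^ i) (x ^ i) := rfl
      have h2 : Commute (y ^ (3 * i)) (x ^ i) := (show Commute y x from yx).pow_pow _ _
      exact (h1.mul_left h2).eq
    have hme : (m * e * m⁻¹) ^ 7 = 1 := by rw [conj_pow, he7, mul_one, mul_inv_cancel]
    obtain ⟨c, hc, hc7, hcG⟩ := exists_lift_pow h he7 hfr (q := 7) (by decide) (s := pi (m * e * m⁻¹))
      (by rw [← map_pow, hme, map_one]) hcm
    obtain ⟨q, hq, hqc⟩ := MFive.exists_conj_of_pi_eq h h7 (by decide) hme (y := c) (Subtype.ext hc7) hc.symm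
    have e1 : q * (m : G) * (e : G) * (q * (m : G))⁻¹ = c := by
      rw [← hqc]
      show q * (m : G) * (e : G) * (q * (m : G))⁻¹ = q * ((m : G) * e * (m : G)⁻¹) * q⁻¹
      group
    refine ⟨q * (m : G), by rw [e1]; exact hcG, ?_⟩
    rw [e1]
    intro h1
    obtain ⟨j, hj⟩ := mem_zpowers_iff.1 h1
    have h2 : e ^ j = c := Subtype.ext (by rw [SubgroupClass.coe_zpow]; exact hj)
    have h3 : pi c = pi e ^ j := by rw [← h2, map_zpow]
    rw [hc, hpe', hpe] at h3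
    have h4 : x ^ i * y ^ (3 * i) = (x ^ i) ^ j := by
      have h5 := conj_zpow (i := j) (a := g⁻¹) (b := x ^ i)
      rw [inv_inv] at h5
      rw [h5] at h3
      exact mul_left_cancel (mul_right_cancel h3)
    have h5 : y ^ (3 * i) ∈ zpowers x := by
      have h6 : y ^ (3 * i) = (x ^ i)⁻¹ * (x ^ i) ^ j := by rw [← h4, inv_mul_cancel_left]
      rw [h6]
      exact mul_mem (inv_mem (npow_mem_zpowers x i)) (zpow_mem (npow_mem_zpowers x i) j)
    apply BpSevenCo.Conj.y_notMem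
    have hcop : Nat.Coprime (3 * i) 7 := by
      refine Nat.Coprime.mul_left (by norm_num) ?_
      refine ((Nat.Prime.coprime_iff_not_dvd h7).2 fun h8 => hi (Nat.mod_eq_zero_of_dvd h8)).symm
    have h8 : (Nat.gcd (3 * i) 7 : ℤ) = (3 * i : ℕ) * Nat.gcdA (3 * i) 7 + (7 : ℕ) * Nat.gcdB (3 * i) 7 :=
      Nat.gcd_eq_gcd_ab _ _
    rw [hcop] at h8
    have h9 : y = (y ^ (3 * i)) ^ (Nat.gcdA (3 * i) 7) * (y ^ 7) ^ (Nat.gcdB (3 * i) 7) := by
      rw [← zpow_natCast y (3 * i), ← zpow_natCast y 7, ← zpow_mul, ← zpow_mul, ← zpow_add, ← h8]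
      simp
    show y ∈ zpowers x
    rw [h9, y_pow, one_zpow, mul_one]
    exact zpow_mem h5 _

end chart

/-! ### The model -/

theorem card_mod : Nat.card ↥InstData.M.G = 808017424794512875886459904961710757005754368000000000 := by
  rw [Cfsg.Agent.MonsterP.EquivOf.isM_model.2]

theorem cz_model : ¬ 7 ^ 3 ∣ Nat.card ↥(centralizer ({KDone.K.z} : Set ↥InstData.M.G)) := by
  have hfin := MFive.Row.finite_model
  intro h7
  have h1 := h7.trans (BpRankZero.Seven.card_cz (KChart.chart KDone.lft MFive.Row.hc))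
  rw [Cfsg.Agent.MonsterU.CoFrameF.card_Co1] at h1
  norm_num at h1

theorem loc_model {e : centralizer ({KDone.K.z} : Set ↥InstData.M.G)} (he : orderOf e = 7)
    (hfr : fr (KChart.pi MFive.Row.hc e) = 1) : Loc (e : ↥InstData.M.G) KDone.K.z := by
  have hfin := MFive.Row.finite_model
  refine loc_of (KChart.chart KDone.lft MFive.Row.hc) he hfr ?_ cz_model
  intro t htx htz htt
  by_cases ht : t = 1
  · exact Or.inl ht
  · right
    exact PreUniq.MonSeven.only_inv KDone.lft MFive.Row.hc (x := e) (t := ⟨t, mem_centralizer_singleton_iff.2 htz⟩)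
      (by rw [← he, pow_orderOf_eq_one]) hfr
      (Subtype.ext htt) (fun h1 => ht (congrArg Subtype.val h1)) (Subtype.ext htx.symm)

/-- fixed rank 6: the centralizer has order `7 |He|` -/
theorem card_six {e : centralizer ({KDone.K.z} : Set ↥InstData.M.G)} (he : orderOf e = 7)
    (hfr : fr (KChart.pi MFive.Row.hc e) = 2 ^ 6) :
    ¬ 7 ^ 5 ∣ Nat.card ↥(centralizer ({(e : ↥InstData.M.G)} : Set ↥InstData.M.G)) := by
  have hfin := MFive.Row.finite_model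
  rw [BpRankZero.Seven.card_cent, (BpRankZero.MRow.he_facts (CpAutMSeven.ZeroComps.heSix e he hfr)).2,
    Subgroup.orderOf_coe, he]
  norm_num

theorem cases_model {e : ↥InstData.M.G} (he : orderOf e = 7) (hez : e * KDone.K.z = KDone.K.z * e) :
    Loc e KDone.K.z ∨ ¬ 7 ^ 5 ∣ Nat.card ↥(centralizer ({e} : Set ↥InstData.M.G)) := by
  have hfin := MFive.Row.finite_model
  have h := KChart.chart KDone.lft MFive.Row.hc
  have he' : orderOf (⟨e, mem_centralizer_singleton_iff.2 hez⟩ : centralizer ({KDone.K.z} : Set ↥InstData.M.G)) = 7 := by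
    rw [Subgroup.orderOf_mk]; exact he
  rcases CpAutMSeven.Ranks.hranks _ (MFive.orderOf_pi h (by norm_num) (by decide) he') with h1 | h1
  · exact Or.inl (loc_model he' h1)
  · right
    have h2 := card_six (e := ⟨e, mem_centralizer_singleton_iff.2 hez⟩) he' h1
    intro h3
    exact h2 h3

theorem ex_model : ∃ e : ↥InstData.M.G, Loc e KDone.K.z := by
  have h := KChart.chart KDone.lft MFive.Row.hc
  obtain ⟨e, he, hes⟩ := MFive.KPair.exists_order h (by norm_num : Nat.Prime 7) (by decide) BpSevenCo.Conj.orderOf_x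
  exact ⟨e, loc_model he (by rw [hes]; exact BpSevenCo.Conj.fr_x)⟩

theorem sm_model : ∃ (r : ↥InstData.M.G) (A : Subgroup ↥InstData.M.G), Sm r A := by
  have hfin := MFive.Row.finite_model
  have hf7 := prime_seven
  obtain ⟨r, hr, hfr⟩ := BpRankZero.MRow.exists_six
  obtain ⟨e⟩ := CpAutMSeven.ZeroComps.heSix r hr hfr
  obtain ⟨B, hB, a, ha, b, hb, hab⟩ := MonSevenHe.he_seven
  let π : ↥(centralizer ({(r : ↥InstData.M.G)} : Set ↥InstData.M.G)) →* XX (r : ↥InstData.M.G) :=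
    QuotientGroup.mk' (Zx (r : ↥InstData.M.G))
  let φ : ↥(centralizer ({(r : ↥InstData.M.G)} : Set ↥InstData.M.G)) →* Spor.He := e.toMonoidHom.comp π
  have hφ : Function.Surjective φ := e.surjective.comp (QuotientGroup.mk'_surjective _)
  have hker : IsPGroup 7 ↥φ.ker := by
    have h1 : φ.ker = Zx (r : ↥InstData.M.G) := by
      have h2 : φ.ker = π.ker := by
        ext c
        rw [MonoidHom.mem_ker, MonoidHom.mem_ker]
        show e (π c) = 1 ↔ π c = 1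
        exact e.map_eq_one_iff
      rw [h2]
      exact QuotientGroup.ker_mk' _
    rw [h1]
    refine IsPGroup.of_card (n := 1) ?_
    show Nat.card ↥(zpowers (LThreeMB.self (r : ↥InstData.M.G))) = _
    rw [Nat.card_zpowers, ← Subgroup.orderOf_coe, pow_one, ← hr, ← Subgroup.orderOf_coe r]
    rfl
  have hrr : φ (LThreeMB.self (r : ↥InstData.M.G)) = 1 := by
    show e (π _) = 1
    rw [e.map_eq_one_iff]
    exact (QuotientGroup.eq_one_iff _).2 (mem_zpowers _)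
  obtain ⟨a', rfl⟩ := hφ a
  obtain ⟨b', rfl⟩ := hφ b
  refine ⟨r, (B.comap φ).map (centralizer ({(r : ↥InstData.M.G)} : Set ↥InstData.M.G)).subtype,
    (hB.comap_of_ker_isPGroup φ hker).map _, ⟨LThreeMB.self (r : ↥InstData.M.G), ?_, rfl⟩, ?_,
    ⟨a', ⟨a', ha, rfl⟩, b', ⟨b', hb, rfl⟩, fun h1 => hab ?_⟩, card_six hr hfr⟩
  · show φ _ ∈ B
    rw [hrr]
    exact one_mem _
  · rintro _ ⟨c, -, rfl⟩
    exact mem_centralizer_singleton_iff.1 c.2
  · rw [← map_mul, ← map_mul]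
    congr 1
    exact Subtype.ext h1

theorem hyp_model : Hyp KDone.K.z where
  cases := fun _ he hez => cases_model he hez
  ex := ex_model
  h6 := by rw [card_mod]; norm_num
  h7 := by rw [card_mod]; norm_num
  sm := sm_model

theorem full_model : H794.Full 7 ↥InstData.M.G := by
  have hfin := MFive.Row.finite_model
  exact hyp_model.full

/-- **The Monster, `p = 7`.** -/
theorem fullP_m_seven {G : Type*} [Group G] [Finite G] (h : Cfsg.Spor.IsoM G) : Cfsg.Agent.H749.FullP 7 G := by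
  have hfin := MFive.Row.finite_model
  have hf7 := prime_seven
  obtain ⟨f⟩ := h
  obtain ⟨f'⟩ := Cfsg.Agent.MonsterP.Equiv.equiv
  exact H749.FullP.of_mulEquiv (f.trans f').symm (H792.SpTool.fullP_of_full full_model)

end Cfsg.Agent.H794.MonSeven
end

private theorem dce_839531482338 : _root_.True := by
  try have : _root_.True := by simp only [_root_.Cfsg.Agent.H794.MonSevenBig.nrm.eq_1]
  try have : _root_.True := by simp only [_root_.Cfsg.Agent.H794.MonSevenBig.OO.eq_1]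
  exact _root_.True.intro
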