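import Cfsg.Agent.H681.DegBasic
import Cfsg.Agent.H348.PPD.Rows_m3
import Cfsg.Agent.Leech.FrameStab
import Cfsg.Agent.SporadicStructure.Co0Base
import Cfsg.Agent.S0366
import Cfsg.Agent.S0364
import Cfsg.Agent.S0400
import Cfsg.Prelude.Def_Spor_Conway
import Cfsg.Agent.Prune
set_option linter.all false
prune_inst 0x7f00000000000000000000000000000000000000000000000000000000000000000000000000000000000000000000000000000000000000000000000000000000000000000000000000000000000000003fffffffffffffffffffffffffffbeffbdfbfeffff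
open scoped Cfsg.Agent.FastGrp

-- part: H794/IrrCompl
section
/-!
# The complement of a fixed vector is irreducible

`G` finite simple, `ρ` a representation on `V` of dimension `n + 1` fixing `w ≠ 0`, such that for every decomposition
`V = S ⊕ T` into subrepresentations one of `S`, `T` lies in the plane spanned by `w` and a vector `e`, which is not
fixed by `G` but by some nontrivial element. Then `n` is a character degree of `G`.
-/

set_option autoImplicit false

namespace Cfsg.Agent.H794.IrrCompl

open Cfsg Cfsg.Agent.H681.DegBasic Cfsg.Agent.Characters.Core Module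

variable {G : Type*} [Group G] [Finite G] [IsSimpleGroup G] {V : Type*} [AddCommGroup V] [Module ℂ V]
  [FiniteDimensional ℂ V] (ρ : Representation ℂ G V)

/-- The kernel of the action on a subrepresentation. -/
def ker (S : Subrepresentation ρ) : Subgroup G where
  carrier := {g | ∀ y ∈ S.toSubmodule, ρ g y = y}
  one_mem' := fun y _ => by rw [map_one]; rfl
  mul_mem' := by
    intro a b ha hb y hy
    rw [map_mul]
    change ρ a (ρ b y) = y
    rw [hb y hy, ha y hy]
  inv_mem' := by
    intro a ha y hy
    have h1 : ρ a⁻¹ (ρ a y) = y := by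
      change (ρ a⁻¹ * ρ a) y = y
      rw [← map_mul, inv_mul_cancel, map_one]; rfl
    rwa [ha y hy] at h1

omit [Finite G] [IsSimpleGroup G] [FiniteDimensional ℂ V] in
theorem ker_normal (S : Subrepresentation ρ) : (ker ρ S).Normal := by
  refine ⟨fun n hn g y hy => ?_⟩
  have h1 : ρ g⁻¹ y ∈ S.toSubmodule := S.apply_mem_toSubmodule g⁻¹ hy
  have h2 : ρ (g * n * g⁻¹) y = ρ g (ρ n (ρ g⁻¹ y)) := by
    rw [map_mul, map_mul]; rfl
  rw [h2, hn _ h1]
  change (ρ g * ρ g⁻¹) y = y
  rw [← map_mul, mul_inv_cancel, map_one]; rfl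

theorem mem_charDegrees_of {w e : V} {F : Submodule ℂ V} (hF : ∀ y ∈ F, ∃ a b : ℂ, y = a • w + b • e)
    (hw : ∀ g, ρ g w = w) (hw0 : w ≠ 0) {g0 : G} (hg0 : g0 ≠ 1) (hg0e : ρ g0 e = e) (hne : ∃ g, ρ g e ≠ e)
    (hdich : ∀ S T : Subrepresentation ρ, IsCompl S.toSubmodule T.toSubmodule →
      S.toSubmodule ≤ F ∨ T.toSubmodule ≤ F) {n : ℕ} (hn : finrank ℂ V = n + 1) (hn1 : 1 ≤ n) :
    n ∈ charDegrees G := by
  have step : ∀ S : Subrepresentation ρ, S.toSubmodule ≤ F → S.toSubmodule ≤ Submodule.span ℂ {w} := by
    intro S hS x hx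
    obtain ⟨a, b, rfl⟩ := hF x (hS hx)
    by_cases hb : b = 0
    · subst hb
      rw [zero_smul, add_zero]
      exact Submodule.smul_mem _ _ (Submodule.mem_span_singleton_self w)
    · exfalso
      obtain ⟨g, hg⟩ := hne
      have hk : g0 ∈ ker ρ S := by
        intro y hy
        obtain ⟨c, d, rfl⟩ := hF y (hS hy)
        rw [map_add, map_smul, map_smul, hw, hg0e]
      have hn := ker_normal ρ S
      rcases hn.eq_bot_or_eq_top with h | h
      · rw [h] at hk
        exact hg0 (Subgroup.mem_bot.1 hk)
      · have h1 : g ∈ ker ρ S := by rw [h]; trivial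
        have h2 := h1 _ hx
        rw [map_add, map_smul, map_smul, hw] at h2
        have h3 := add_left_cancel h2
        exact hg (smul_right_injective V hb h3)
  -- the fixed line
  let U : Subrepresentation ρ :=
    { toSubmodule := Submodule.span ℂ {w}
      apply_mem_toSubmodule := by
        intro g v hv
        obtain ⟨c, rfl⟩ := Submodule.mem_span_singleton.1 hv
        rw [map_smul, hw]
        exact hv }
  obtain ⟨W, hW⟩ := exists_isCompl_sub U
  have hWn : finrank ℂ W.toSubmodule = n := by
    have h1 := Submodule.finrank_add_eq_of_isCompl hW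
    have h2 : finrank ℂ U.toSubmodule = 1 := finrank_span_singleton hw0
    omega
  have hirr : W.toRepresentation.IsIrreducible := by
    have hnt : Nontrivial W.toSubmodule := Module.nontrivial_of_finrank_pos (R := ℂ) (by omega)
    have hnt2 : Nontrivial (Subrepresentation W.toRepresentation) := by
      refine ⟨⊥, ⊤, fun h => ?_⟩
      have : (⊥ : Submodule ℂ W.toSubmodule) = ⊤ := congrArg Subrepresentation.toSubmodule h
      exact bot_ne_top this
    refine ⟨fun σ => ?_⟩
    obtain ⟨τ, hτ⟩ := exists_isCompl_sub σ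
    have hS : (mapSub W σ).toSubmodule = σ.toSubmodule.map W.toSubmodule.subtype := rfl
    have hT : (mapSub W τ).toSubmodule = τ.toSubmodule.map W.toSubmodule.subtype := rfl
    have h1 : Disjoint (mapSub W σ).toSubmodule (mapSub W τ).toSubmodule := by
      rw [hS, hT, disjoint_iff, ← Submodule.map_inf _ W.toSubmodule.subtype_injective, hτ.inf_eq_bot,
        Submodule.map_bot]
    have h2 : (mapSub W σ).toSubmodule ⊔ (mapSub W τ).toSubmodule = W.toSubmodule := by
      rw [hS, hT, ← Submodule.map_sup, hτ.sup_eq_top, Submodule.map_top, Submodule.range_subtype]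
    have h3 : IsCompl (mapSub W σ).toSubmodule (mapSub W τ ⊔ U).toSubmodule := by
      refine ⟨?_, ?_⟩
      · exact h1.disjoint_sup_right_of_disjoint_sup_left (h2 ▸ hW.disjoint.symm)
      · rw [codisjoint_iff]
        change _ ⊔ ((mapSub W τ).toSubmodule ⊔ U.toSubmodule) = ⊤
        rw [← sup_assoc, h2, sup_comm]
        exact hW.sup_eq_top
    have hle : ∀ σ' : Subrepresentation W.toRepresentation, (mapSub W σ').toSubmodule ≤ W.toSubmodule := by
      intro σ'
      exact Submodule.map_subtype_le _ _
    have hfin : ∀ σ' : Subrepresentation W.toRepresentation, (mapSub W σ').toSubmodule ≤ F → σ' = ⊥ := by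
      intro σ' h
      have h4 := hW.disjoint (step _ h) (hle σ')
      apply Subrepresentation.toSubmodule_injective
      change σ'.toSubmodule = ⊥
      apply Submodule.map_injective_of_injective W.toSubmodule.subtype_injective
      rw [Submodule.map_bot]
      exact le_bot_iff.1 h4
    rcases hdich _ _ h3 with h | h
    · exact Or.inl (hfin σ h)
    · right
      have h5 : τ = ⊥ := hfin τ (le_trans le_sup_left h)
      apply Subrepresentation.toSubmodule_injective
      change σ.toSubmodule = ⊤
      have h6 := hτ.sup_eq_top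
      rw [h5] at h6
      rw [← h6]
      exact (sup_bot_eq _).symm
  refine mem_charDegrees.2 ⟨_, isIrrCharacter_of_rep _ hirr, ?_⟩
  rw [Representation.char_one, hWn]

end Cfsg.Agent.H794.IrrCompl
end

-- part: H794/LeechPP
section
/-!
# The irreducible representations of degree 23 of the stabilisers `Co₂` and `Co₃`

`rep` : the 24-dimensional complex representation of `Co0`.
`mem_charDegrees` : the stabiliser in `Co0` of a vector `(a, b²³)`, `b ≠ 0`, has the character degree 23 if it is
simple and of order more than `|M24|`.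
-/

set_option autoImplicit false

namespace Cfsg.Agent.H794.LeechPP

open Cfsg Cfsg.Agent.SporadicStructure Cfsg.Agent.SporadicStructure.Co0Base Module

/-- The complex space. -/
abbrev Sp : Type := GolayPt → ℂ

/-- a lattice vector in the complex space -/
def toV (v : leechLattice) : Sp := fun i => (((v : GolayPt → ℤ) i : ℤ) : ℂ)

theorem toV_apply (v : leechLattice) (i : GolayPt) : toV v i = (((v : GolayPt → ℤ) i : ℤ) : ℂ) := rfl

theorem toV_injective : Function.Injective toV := by
  intro v w h
  apply Subtype.ext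
  funext i
  exact Int.cast_injective (congrFun h i)

theorem toV_e8 (i : GolayPt) : toV (e8 i) = (8 : ℂ) • Pi.single i (1 : ℂ) := by
  funext j
  rw [toV_apply, e8_coe, Pi.smul_apply, smul_eq_mul]
  by_cases h : j = i
  · subst h
    simp
  · simp [h]

/-- The matrix of an element of `Co0`. -/
noncomputable def mat (g : Co0) : Matrix GolayPt GolayPt ℂ :=
  fun j i => ((((g • e8 i : leechLattice) : GolayPt → ℤ) j : ℤ) : ℂ) / 8

/-- The linear map of an element of `Co0`. -/
noncomputable def lin (g : Co0) : Sp →ₗ[ℂ] Sp := Matrix.toLin' (mat g)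

theorem lin_toV (g : Co0) (v : leechLattice) : lin g (toV v) = toV (g • v) := by
  funext j
  rw [lin, Matrix.toLin'_apply, Matrix.mulVec, dotProduct, toV_apply]
  have h : (8 : ℂ) * ((((g • v : leechLattice) : GolayPt → ℤ) j : ℤ) : ℂ) =
      ∑ i, (((v : GolayPt → ℤ) i : ℤ) : ℂ) * ((((g • e8 i : leechLattice) : GolayPt → ℤ) j : ℤ) : ℂ) := by
    have := congrArg (fun z : ℤ => (z : ℂ)) (eight_mul_co0 g v j)
    push_cast at this
    exact this
  have h2 : ∀ i, mat g j i * toV v i =
      (1 / 8 : ℂ) * ((((v : GolayPt → ℤ) i : ℤ) : ℂ) * ((((g • e8 i : leechLattice) : GolayPt → ℤ) j : ℤ) : ℂ)) := by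
    intro i
    rw [toV_apply, mat]
    ring
  rw [Finset.sum_congr rfl fun i _ => h2 i, ← Finset.mul_sum, ← h]
  ring

theorem ext_e8 {f g : Sp →ₗ[ℂ] Sp} (h : ∀ i, f (toV (e8 i)) = g (toV (e8 i))) : f = g := by
  apply LinearMap.pi_ext'
  intro i
  ext1
  have h1 := h i
  rw [toV_e8, map_smul, map_smul] at h1
  exact smul_right_injective _ (by norm_num : (8 : ℂ) ≠ 0) h1

/-- The representation of `Co0` on the complex space. -/
noncomputable def rep : Representation ℂ Co0 Sp where
  toFun := lin
  map_one' := ext_e8 fun i => by rw [lin_toV, one_smul, Module.End.one_apply]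
  map_mul' g h := ext_e8 fun i => by
    rw [lin_toV, Module.End.mul_apply, lin_toV, lin_toV, mul_smul]

theorem rep_toV (g : Co0) (v : leechLattice) : rep g (toV v) = toV (g • v) := lin_toV g v

theorem toV_e8' (i : GolayPt) : (Pi.single i (1 : ℂ) : Sp) = (8 : ℂ)⁻¹ • toV (e8 i) := by
  rw [toV_e8, smul_smul, inv_mul_cancel₀ (by norm_num), one_smul]

/-- Permutations of the coordinates. -/
theorem rep_perm {g : Co0} {σ : Equiv.Perm GolayPt}
    (h : ∀ (u : leechLattice) (i : GolayPt), ((g • u : leechLattice) : GolayPt → ℤ) i = (u : GolayPt → ℤ) (σ.symm i))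
    (i : GolayPt) : rep g (Pi.single i 1) = Pi.single (σ i) 1 := by
  rw [toV_e8', map_smul, rep_toV, toV_e8']
  congr 2
  apply Subtype.ext
  funext j
  rw [h, e8_coe, e8_coe]
  by_cases hj : j = σ i
  · subst hj
    simp
  · rw [Pi.single_eq_of_ne hj, Pi.single_eq_of_ne]
    intro hc
    exact hj (by rw [← hc, Equiv.apply_symm_apply])

/-- The plane of the vectors constant on the 23 finite points. -/
def F : Submodule ℂ Sp where
  carrier := {y | ∀ i j : ZMod 23, y (some i) = y (some j)}
  zero_mem' := fun _ _ => rfl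
  add_mem' := fun {a b} ha hb i j => by
    change a (some i) + b (some i) = a (some j) + b (some j)
    rw [ha i j, hb i j]
  smul_mem' := fun c a ha i j => by
    change c * a (some i) = c * a (some j)
    rw [ha i j]

theorem exists_two (i j k l : ZMod 23) (hij : i ≠ j) (hkl : k ≠ l) :
    ∃ σ ∈ M24, σ none = none ∧ σ (some i) = some k ∧ σ (some j) = some l := by
  have h3 : MulAction.IsMultiplyPretransitive M24 GolayPt 3 := by
    have := S0366.result
    exact MulAction.isMultiplyPretransitive_of_le (n := 5) (by norm_num) (by simp [GolayPt])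
  rw [MulAction.isMultiplyPretransitive_iff] at h3
  have hinj : ∀ i j : ZMod 23, i ≠ j → Function.Injective ![(none : GolayPt), some i, some j] := by
    intro i j hij a b hab
    fin_cases a <;> fin_cases b <;> simp_all only [_root_.ne_eq, _root_.Subtype.exists, _root_.MulAction.mem_stabilizer_iff, _root_.Nat.succ_eq_add_one, _root_.Nat.reduceAdd, _root_.Fin.zero_eta, _root_.Fin.isValue, _root_.Matrix.cons_val_zero, _root_.Fin.mk_one, _root_.Matrix.cons_val_one, _root_.reduceCtorEq, _root_.Fin.reduceFinMk, _root_.Matrix.cons_val, _root_.Option.some.injEq, _root_.Fin.reduceEq, _root_.not_true_eq_false]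
  obtain ⟨g, hg⟩ := h3 ⟨_, hinj i j hij⟩ ⟨_, hinj k l hkl⟩
  refine ⟨g, g.2, ?_, ?_, ?_⟩
  · exact DFunLike.congr_fun hg 0
  · exact DFunLike.congr_fun hg 1
  · exact DFunLike.congr_fun hg 2

/-- An endomorphism commuting with `M23` is a scalar modulo endomorphisms with image in the plane. -/
theorem exists_scalar (p : Sp →ₗ[ℂ] Sp) (hp : ∀ g : Co0, ∀ σ : Equiv.Perm GolayPt, σ none = none →
      (∀ (u : leechLattice) (i : GolayPt), ((g • u : leechLattice) : GolayPt → ℤ) i = (u : GolayPt → ℤ) (σ.symm i)) →
      ∀ x, p (rep g x) = rep g (p x)) : ∃ a : ℂ, ∀ x, p x - a • x ∈ F := by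
  -- coordinates of a permuted vector
  have hcoord : ∀ (g : Co0) (σ : Equiv.Perm GolayPt),
      (∀ (u : leechLattice) (i : GolayPt), ((g • u : leechLattice) : GolayPt → ℤ) i = (u : GolayPt → ℤ) (σ.symm i)) →
      ∀ (x : Sp) (i : GolayPt), rep g x (σ i) = x i := by
    intro g σ h x i
    have h1 : rep g x = ∑ j, x j • (Pi.single (σ j) (1 : ℂ) : Sp) := by
      conv_lhs => rw [← Finset.univ_sum_single x]
      rw [map_sum]
      refine Finset.sum_congr rfl fun j _ => ?_
      have h2 : (Pi.single j (x j) : Sp) = x j • Pi.single j (1 : ℂ) := by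
        rw [← Pi.single_smul, smul_eq_mul, mul_one]
      rw [h2, map_smul, rep_perm h]
    rw [h1, Finset.sum_apply, Finset.sum_eq_single i]
    · simp
    · intro j _ hj
      rw [Pi.smul_apply, Pi.single_eq_of_ne (fun hc => hj (σ.injective hc).symm), smul_zero]
    · intro hc
      exact absurd (Finset.mem_univ i) hc
  have hM : ∀ σ ∈ M24, σ none = none → ∀ i j : GolayPt,
      p (Pi.single (σ j) 1) (σ i) = p (Pi.single j 1) i := by
    intro σ hσ h0 i j
    obtain ⟨g, hg⟩ := Leech.FrameAux.exists_co0_of_perm σ hσ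
    rw [← rep_perm hg, hp g σ h0 hg, hcoord g σ hg]
  -- the entries
  have hoff : ∀ i j k l : ZMod 23, i ≠ j → k ≠ l →
      p (Pi.single (some j) 1) (some i) = p (Pi.single (some l) 1) (some k) := by
    intro i j k l hij hkl
    obtain ⟨σ, hσ, h0, h1, h2⟩ := exists_two i j k l hij hkl
    have := hM σ hσ h0 (some i) (some j)
    rw [h1, h2] at this
    exact this.symm
  have hne1 : ∀ i : ZMod 23, i ≠ i + 1 := by decide
  have hdiag : ∀ i j : ZMod 23, p (Pi.single (some j) 1) (some j) = p (Pi.single (some i) 1) (some i) := by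
    intro i j
    obtain ⟨σ, hσ, h0, h1, -⟩ := exists_two j (j + 1) i (i + 1) (hne1 j) (hne1 i)
    have := hM σ hσ h0 (some j) (some j)
    rw [h1] at this
    exact this.symm
  have hinf : ∀ i j : ZMod 23, p (Pi.single none 1) (some i) = p (Pi.single none 1) (some j) := by
    intro i j
    obtain ⟨σ, hσ, h0, h1, -⟩ := exists_two j (j + 1) i (i + 1) (hne1 j) (hne1 i)
    have := hM σ hσ h0 (some j) none
    rw [h1, h0] at this
    exact this
  have h01 : (0 : ZMod 23) ≠ 1 := by decide
  set b : ℂ := p (Pi.single (some 1) 1) (some 0) with hb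
  set a : ℂ := p (Pi.single (some 0) 1) (some 0) - b with ha
  refine ⟨a, fun x => ?_⟩
  have hx : p x - a • x = ∑ j, x j • (p (Pi.single j 1) - a • (Pi.single j 1 : Sp)) := by
    conv_lhs => rw [← Finset.univ_sum_single x]
    rw [map_sum, Finset.smul_sum, ← Finset.sum_sub_distrib]
    refine Finset.sum_congr rfl fun j _ => ?_
    have h2 : (Pi.single j (x j) : Sp) = x j • Pi.single j (1 : ℂ) := by
      rw [← Pi.single_smul, smul_eq_mul, mul_one]
    rw [h2, map_smul, smul_sub, smul_comm a]
  rw [hx]
  refine Submodule.sum_mem _ fun j _ => Submodule.smul_mem _ _ ?_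
  rcases j with _ | j
  · intro i k
    change p (Pi.single none 1) (some i) - a * (Pi.single none 1 : Sp) (some i) =
      p (Pi.single none 1) (some k) - a * (Pi.single none 1 : Sp) (some k)
    rw [hinf i k]
    simp
  · have key : ∀ i : ZMod 23, (p (Pi.single (some j) 1) - a • (Pi.single (some j) 1 : Sp)) (some i) = b := by
      intro i
      change p (Pi.single (some j) 1) (some i) - a * (Pi.single (some j) 1 : Sp) (some i) = b
      by_cases hij : i = j
      · subst hij
        rw [Pi.single_eq_same, hdiag 0 i, ha]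
        ring
      · rw [Pi.single_eq_of_ne (by simpa using hij), hoff i j 0 1 hij h01]
        ring
    intro i k
    rw [key, key]

theorem F_ne_top : ∃ x : Sp, x ∉ F := by
  refine ⟨Pi.single (some 0) 1, fun h => ?_⟩
  have h1 := h 0 1
  rw [Pi.single_eq_same, Pi.single_eq_of_ne (by decide)] at h1
  exact one_ne_zero h1

/-- The dichotomy for decompositions invariant under `M23`. -/
theorem dich {S T : Submodule ℂ Sp} (h : IsCompl S T) (hST : ∀ g : Co0, ∀ σ : Equiv.Perm GolayPt, σ none = none →
      (∀ (u : leechLattice) (i : GolayPt), ((g • u : leechLattice) : GolayPt → ℤ) i = (u : GolayPt → ℤ) (σ.symm i)) →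
      (∀ x ∈ S, rep g x ∈ S) ∧ ∀ x ∈ T, rep g x ∈ T) : S ≤ F ∨ T ≤ F := by
  obtain ⟨a, ha⟩ := exists_scalar (S.projection T h) (by
    intro g σ h0 hg x
    obtain ⟨hS, hT⟩ := hST g σ h0 hg
    have h1 : x = S.projection T h x + (x - S.projection T h x) := by abel
    conv_lhs => rw [h1]
    rw [map_add, map_add, Submodule.projection_apply_of_mem_left h (hS _ (Submodule.projection_apply_mem h x)),
      (Submodule.projection_apply_eq_zero_iff h).2 (hT _ (Submodule.sub_projection_mem h x)), add_zero])
  obtain ⟨x, hx⟩ := F_ne_top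
  have h1 : (a * a - a) • x ∈ F := by
    have h2 := ha x
    have h3 := ha (S.projection T h x)
    rw [Submodule.projection_apply_of_mem_left h (Submodule.projection_apply_mem h x)] at h3
    have h4 : (a * a - a) • x = (a - 1) • (a • x - S.projection T h x) - (S.projection T h x - a • S.projection T h x) := by
      module
    rw [h4]
    refine Submodule.sub_mem _ (Submodule.smul_mem _ _ ?_) h3
    rw [← Submodule.neg_mem_iff, neg_sub]
    exact h2
  have h5 : a * a - a = 0 := by
    by_contra hne
    exact hx ((Submodule.smul_mem_iff _ hne).1 h1)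
  have h6 : a = 0 ∨ a = 1 := by
    have : a * (a - 1) = 0 := by rw [← h5]; ring
    rcases mul_eq_zero.1 this with h | h
    · exact Or.inl h
    · exact Or.inr (sub_eq_zero.1 h)
  rcases h6 with rfl | rfl
  · left
    intro y hy
    have h7 := ha y
    rwa [zero_smul, sub_zero, Submodule.projection_apply_of_mem_left h hy] at h7
  · right
    intro y hy
    have h7 := ha y
    rwa [one_smul, (Submodule.projection_apply_eq_zero_iff h).2 hy, zero_sub, Submodule.neg_mem_iff] at h7

section Main

variable (u : leechLattice) {a b : ℤ} (ha : (u : GolayPt → ℤ) none = a)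
  (hb : ∀ i : ZMod 23, (u : GolayPt → ℤ) (some i) = b) (hb0 : b ≠ 0)

include hb in
theorem mem_stab {g : Co0} {σ : Equiv.Perm GolayPt} (h0 : σ none = none)
    (hg : ∀ (u : leechLattice) (i : GolayPt), ((g • u : leechLattice) : GolayPt → ℤ) i = (u : GolayPt → ℤ) (σ.symm i)) :
    g ∈ MulAction.stabilizer Co0 u := by
  rw [MulAction.mem_stabilizer_iff]
  apply Subtype.ext
  funext i
  rw [hg]
  have h1 : σ.symm none = none := by rw [Equiv.symm_apply_eq, h0]
  rcases i with _ | i
  · rw [h1]
  · rcases hi : σ.symm (some i) with _ | j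
    · exfalso
      rw [← h1] at hi
      exact Option.some_ne_none _ (σ.symm.injective hi)
    · rw [hb, hb]

include hb hb0 in
/-- Elements fixing `u` and `8 e_∞` are permutations. -/
theorem exists_perm_of_fix {g : Co0} (hu : g • u = u) (h : g • e8 none = e8 none) :
    ∃ σ : M24, ∀ (u : leechLattice) (i : GolayPt),
      ((g • u : leechLattice) : GolayPt → ℤ) i = (u : GolayPt → ℤ) ((σ : Equiv.Perm GolayPt).symm i) := by
  obtain ⟨σ, s, hs, h0, hs0, -, hact⟩ := Leech.FrameStab.exists_signed_perm g none h
  have hs1 : ∀ i, s i = 1 := by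
    intro i
    rcases i with _ | i
    · exact hs0
    · have h1 := hact u (some i)
      rw [hu, hb] at h1
      rcases hi : σ (some i) with _ | j
      · exfalso
        rw [← h0] at hi
        exact Option.some_ne_none _ (σ.injective hi)
      · rw [hi, hb] at h1
        exact (mul_right_cancel₀ hb0 (by rw [one_mul]; exact h1)).symm
  have hact' : ∀ (u : leechLattice) (i : GolayPt),
      ((g • u : leechLattice) : GolayPt → ℤ) i = (u : GolayPt → ℤ) (σ.symm i) := by
    intro v i
    have h1 := hact v (σ.symm i)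
    rwa [Equiv.apply_symm_apply, hs1, one_mul] at h1
  exact ⟨⟨σ, Leech.FrameStab.mem_M24_of_action g σ hact'⟩, hact'⟩

include ha hb hb0 in
theorem mem_charDegrees [IsSimpleGroup (MulAction.stabilizer Co0 u)] [Finite (MulAction.stabilizer Co0 u)]
    (hc : 244823040 < Nat.card (MulAction.stabilizer Co0 u)) : 23 ∈ charDegrees (MulAction.stabilizer Co0 u) := by
  have hbC : (b : ℂ) ≠ 0 := by exact_mod_cast hb0
  obtain ⟨σ, hσ, h0, h1, -⟩ := exists_two 0 1 1 0 (by decide) (by decide)
  obtain ⟨g0, hg0⟩ := Leech.FrameAux.exists_co0_of_perm σ hσ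
  have hmem := mem_stab u hb h0 hg0
  refine IrrCompl.mem_charDegrees_of (G := MulAction.stabilizer Co0 u) (V := Sp)
    (rep.comp (MulAction.stabilizer Co0 u).subtype) (w := toV u) (e := Pi.single none 1) (F := F)
    ?_ ?_ ?_ (g0 := ⟨g0, hmem⟩) ?_ ?_ ?_ ?_ ?_ (by norm_num)
  · intro y hy
    refine ⟨y (some 0) / b, y none - y (some 0) / b * a, ?_⟩
    funext i
    rcases i with _ | i
    · change y none = y (some 0) / b * toV u none + (y none - y (some 0) / b * a) * (Pi.single none 1 : Sp) none
      rw [toV_apply, ha, Pi.single_eq_same]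
      ring
    · change y (some i) = y (some 0) / b * toV u (some i) +
        (y none - y (some 0) / b * a) * (Pi.single none 1 : Sp) (some i)
      rw [toV_apply, hb, Pi.single_eq_of_ne (Option.some_ne_none _), mul_zero, add_zero,
        div_mul_cancel₀ _ hbC, hy i 0]
  · rintro ⟨g, hg⟩
    change rep g (toV u) = toV u
    rw [rep_toV, MulAction.mem_stabilizer_iff.1 hg]
  · intro h
    have h2 := congrFun h (some 0)
    rw [toV_apply, hb] at h2
    exact hbC h2
  · intro h
    have h2 : g0 = 1 := congrArg Subtype.val h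
    have h3 := rep_perm hg0 (some 0)
    rw [h1, h2, map_one] at h3
    have h4 := congrFun h3 (some 0)
    change (Pi.single (some 0) 1 : Sp) (some 0) = _ at h4
    rw [Pi.single_eq_same, Pi.single_eq_of_ne (by decide)] at h4
    exact one_ne_zero h4
  · change rep g0 (Pi.single none 1) = _
    rw [rep_perm hg0, h0]
  · by_contra hcon
    push Not at hcon
    have h2 : ∀ g : MulAction.stabilizer Co0 u, ∃ σ : M24, ∀ (u : leechLattice) (i : GolayPt),
      (((g : Co0) • u : leechLattice) : GolayPt → ℤ) i = (u : GolayPt → ℤ) ((σ : Equiv.Perm GolayPt).symm i) := by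
      intro g
      refine exists_perm_of_fix u hb hb0 (MulAction.mem_stabilizer_iff.1 g.2) ?_
      have h3 : rep (g : Co0) (Pi.single none 1) = Pi.single none 1 := hcon g
      rw [toV_e8', map_smul, rep_toV] at h3
      exact toV_injective (smul_right_injective Sp (inv_ne_zero (by norm_num : (8 : ℂ) ≠ 0)) h3)
    choose f hf using h2
    have h4 : Function.Injective f := by
      intro g h hgh
      apply Subtype.ext
      apply co0_ext
      intro v
      apply Subtype.ext
      funext i
      rw [hf, hf, hgh]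
    have : Finite M24 := Nat.finite_of_card_ne_zero (by rw [S0364.result]; norm_num)
    have h5 := Nat.card_le_card_of_injective f h4
    rw [S0364.result] at h5
    omega
  · intro S T hST
    refine dich hST fun g σ h0 hg => ?_
    have hm := mem_stab u hb h0 hg
    exact ⟨fun x hx => S.apply_mem_toSubmodule ⟨g, hm⟩ hx, fun x hx => T.apply_mem_toSubmodule ⟨g, hm⟩ hx⟩
  · simp [Sp, GolayPt]

end Main

/-- The stabiliser of `(-5, -1²³)` is `Co₃`. -/
def equivV : MulAction.stabilizer Co0 Spor.leechV ≃* Spor.Co3 where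
  toFun g := ⟨((g : Co0) : Equiv.Perm leechLattice), (g : Co0).2, g.2⟩
  invFun g := ⟨⟨(g : Equiv.Perm leechLattice), g.2.1⟩, g.2.2⟩
  left_inv _ := rfl
  right_inv _ := rfl
  map_mul' _ _ := rfl

/-- The stabiliser of `(4, 4, 0²²)` is `Co₂`. -/
def equivU : MulAction.stabilizer Co0 Spor.leechU ≃* Spor.Co2 where
  toFun g := ⟨((g : Co0) : Equiv.Perm leechLattice), (g : Co0).2, g.2⟩
  invFun g := ⟨⟨(g : Equiv.Perm leechLattice), g.2.1⟩, g.2.2⟩
  left_inv _ := rfl
  right_inv _ := rfl
  map_mul' _ _ := rfl

theorem hasPP_Co3 {G : Type*} [Group G] [IsSimpleGroup G] [Finite G] (h : Spor.IsoCo3 G)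
    (hc : 244823040 < Nat.card G) : PP.HasPP G := by
  obtain ⟨e⟩ := h
  have e' := e.trans equivV.symm
  have h1 : IsSimpleGroup (MulAction.stabilizer Co0 Spor.leechV) := e'.isSimpleGroup_congr.1 inferInstance
  have h2 : Finite (MulAction.stabilizer Co0 Spor.leechV) := Finite.of_equiv _ e'.toEquiv
  have h3 : 23 ∈ charDegrees (MulAction.stabilizer Co0 Spor.leechV) := by
    refine mem_charDegrees Spor.leechV (a := -5) (b := -1) ?_ ?_ (by norm_num) (by rwa [← Nat.card_congr e'.toEquiv])
    · rfl
    · intro i; rfl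
  exact PP.HasPP.congr e'.symm ⟨23, h3, (by norm_num : Nat.Prime 23).isPrimePow⟩

theorem hasPP_Co2 {G : Type*} [Group G] [IsSimpleGroup G] [Finite G] (h : Spor.IsoCo2 G)
    (hc : 244823040 < Nat.card G) : PP.HasPP G := by
  obtain ⟨e⟩ := h
  let u : leechLattice := ⟨_, minus3_mem none⟩
  have hu : sqNorm (u : GolayPt → ℤ) = 32 := by decide
  have hU : sqNorm (Spor.leechU : GolayPt → ℤ) = 32 := by decide
  obtain ⟨g, hg⟩ := S0400.result u Spor.leechU hu hU
  have e' := (e.trans equivU.symm).trans (MulAction.stabilizerEquivStabilizer hg.symm).symm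
  have h1 : IsSimpleGroup (MulAction.stabilizer Co0 u) := e'.isSimpleGroup_congr.1 inferInstance
  have h2 : Finite (MulAction.stabilizer Co0 u) := Finite.of_equiv _ e'.toEquiv
  have h3 : 23 ∈ charDegrees (MulAction.stabilizer Co0 u) := by
    refine mem_charDegrees u (a := -3) (b := 1) ?_ ?_ (by norm_num) (by rwa [← Nat.card_congr e'.toEquiv])
    · rfl
    · intro i; rfl
  exact PP.HasPP.congr e'.symm ⟨23, h3, (by norm_num : Nat.Prime 23).isPrimePow⟩

end Cfsg.Agent.H794.LeechPP
end

private theorem dce_dcfd13500930 : _root_.True := by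
  try have : _root_.True := by simp only [_root_.Cfsg.Agent.H794.LeechPP.mat.eq_1]
  try have : _root_.True := by simp only [_root_.Cfsg.Agent.H794.LeechPP.lin.eq_1]
  exact _root_.True.intro
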