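import Cfsg.Agent.H625.SylConst
import Cfsg.Agent.CharactersDeep.ModCongr
import Cfsg.Agent.Blocks.ExistsModular
import Cfsg.Agent.Blocks.PPart
import Cfsg.Agent.S0907
import Cfsg.Agent.Prune
set_option linter.all false
prune_inst 0x7f00000000000000000000000000000000000000000000000000000000000000000000000000000000000000000000000000000000000000000000000000000000000000000000000000000000000000003fffffffffffffffffffffffffffbeffbdffffffff
open scoped Cfsg.Agent.FastGrp

/-!
# Constituents of the permutation character on a Sylow `p`-subgroup, and `p`-blocks (helper794)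

* `exists_fix` : every `p`-block contains a constituent of `1_P^G`, `P` a Sylow `p`-subgroup;
* `imc_of_centralChar` : if `p` divides `|g^G|` and `ω_χ(g)` is a unit modulo `M`, then `IMC p G`;
* `imc_of_ne` : if `x` is a `p`-element and `ω_χ(x)`, `|x^G|` are different modulo `M`, then `IMC p G`;
* `ZC p G` : some irreducible character vanishes at a `p`-element whose class size is prime to `p`;
* `imc_of_zc` : `ZC p G → IMC p G`.
-/

set_option autoImplicit false

open Cfsg
open scoped ComplexConjugate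

namespace Cfsg.Agent.H794.Imc

open Cfsg.Agent.H625.SylConst Cfsg.Agent.Blocks.Local Cfsg.Agent.Blocks.Basic Cfsg.Agent.Blocks

universe u

variable {G : Type u} [Group G] [Finite G] {p : ℕ} [hp : Fact p.Prime] {M : Ideal AlgInt}

/-- Every block has a constituent of the permutation character on the cosets of a Sylow `p`-subgroup. -/
theorem exists_fix (hM : IsPModular p M) {B : Set (IrrCharacter G)} (hB : IsPBlock M B) (P : Sylow p G) :
    ∃ χ ∈ B, Fix (P : Subgroup G) (χ : G → ℂ) := by
  classical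
  by_contra hcon
  push Not at hcon
  have : Finite (IrrCharacter G) := Characters.Core.finite_irr
  have := Fintype.ofFinite (IrrCharacter G)
  have := Fintype.ofFinite P
  have hP : M.IsPrime := hM.2.1.isPrime
  have key : ∀ z : P, z ≠ 1 → ∑ χ : IrrCharacter G with χ ∈ B, (χ : G → ℂ) 1 * (χ : G → ℂ) (z : G) = 0 := by
    intro z hz
    have hy : p ∣ orderOf (z : G) := by
      obtain ⟨k, hk⟩ := (IsPGroup.iff_orderOf.1 P.isPGroup') z
      rw [Subgroup.orderOf_coe, hk]
      apply dvd_pow_self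
      rintro rfl
      rw [pow_zero, orderOf_eq_one_iff] at hk
      exact hz hk
    have h1 := S0907.result p M hM B hB 1 (z : G) (by
      rw [orderOf_one]; exact fun h => hp.out.one_lt.ne' (Nat.dvd_one.1 h)) hy
    rw [finsum_mem_eq_finite_toFinset_sum _ (Set.toFinite _)] at h1
    have h2 := congrArg conj h1
    rw [map_zero, map_sum] at h2
    rw [← h2]
    refine Finset.sum_congr ?_ fun χ _ => ?_
    · ext χ; simp
    rw [map_mul, Complex.conj_conj]
    obtain ⟨n, -, hn⟩ := Characters.Core.isIrr_apply_one χ.2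
    rw [hn, Complex.conj_natCast]
  have h0 : ∑ χ : IrrCharacter G with χ ∈ B, (χ : G → ℂ) 1 * ∑ z : P, (χ : G → ℂ) (z : G) = 0 := by
    apply Finset.sum_eq_zero
    intro χ hχ
    have h1 := hcon χ (Finset.mem_filter.1 hχ).2
    rw [fix_iff, not_not] at h1
    rw [h1, mul_zero]
  simp_rw [Finset.mul_sum] at h0
  rw [Finset.sum_comm] at h0
  replace h0 := (Finset.sum_eq_single (1 : (P : Subgroup G)) (fun z _ hz => key z hz)
    (fun h => absurd (Finset.mem_univ _) h)).symm.trans h0
  -- the sum of the squares of the degrees is not zero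
  have h3 : ∑ χ : IrrCharacter G with χ ∈ B, (χ : G → ℂ) 1 * (χ : G → ℂ) ((1 : P) : G) =
      ((∑ χ : IrrCharacter G with χ ∈ B, charDegree (χ : G → ℂ) * charDegree (χ : G → ℂ) : ℕ) : ℂ) := by
    rw [Nat.cast_sum]
    refine Finset.sum_congr rfl fun χ _ => ?_
    rw [Subgroup.coe_one, irr_one_eq_charDegree χ.2, Nat.cast_mul]
  rw [h3, Nat.cast_eq_zero, Finset.sum_eq_zero_iff] at h0
  obtain ⟨χ, rfl⟩ := hB
  have h4 := h0 χ (Finset.mem_filter.2 ⟨Finset.mem_univ _, mem_blockOf_self χ⟩)
  have h5 := charDegree_pos χ.2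
  exact absurd h4 (Nat.mul_pos h5 h5).ne'

omit [Finite G] hp in
theorem memLocalRing_inv_degree (hM : IsPModular p M) {ψ : G → ℂ} (hψ : IsIrrCharacter G ψ)
    (h : ¬ p ∣ charDegree ψ) : MemLocalRing M (ψ 1)⁻¹ := by
  have hP : M.IsPrime := hM.2.1.isPrime
  rw [irr_one_eq_charDegree hψ]
  exact memLocalRing_inv_natCast hM h

omit hp in
/-- characters of degree prime to `p` : `ω_ψ(g)` is divisible by `p` if the class size is. -/
theorem mem_of_dvd (hM : IsPModular p M) {ψ : G → ℂ} (hψ : IsIrrCharacter G ψ)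
    (h : ¬ p ∣ charDegree ψ) {g : G} (hg : p ∣ (Subgroup.centralizer ({g} : Set G)).index) :
    MemLocalIdeal M (centralChar ψ g) := by
  have hP : M.IsPrime := hM.2.1.isPrime
  rw [centralChar_def, div_eq_mul_inv, mul_assoc]
  exact memLocalIdeal_mul_right ((memLocalIdeal_natCast_iff hM _).2 hg)
    (memLocalRing_mul (memLocalRing_of_isIntegral (CharactersDeep.ModCongr.isIntegral_irr hψ g)) (memLocalRing_inv_degree hM hψ h))

/-- characters of degree prime to `p` : `ω_ψ(x) = |x^G|` modulo `M` for `p`-elements `x` -/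
theorem sub_mem (hM : IsPModular p M) {ψ : G → ℂ} (hψ : IsIrrCharacter G ψ)
    (h : ¬ p ∣ charDegree ψ) {x : G} (hx : ∃ k : ℕ, orderOf x = p ^ k) :
    MemLocalIdeal M (centralChar ψ x - ((Subgroup.centralizer ({x} : Set G)).index : ℂ)) := by
  have hP : M.IsPrime := hM.2.1.isPrime
  have h1 : MemLocalIdeal M (ψ x - ψ 1) := by
    have h2 := CharactersDeep.ModCongr.memLocalIdeal_character_sub hM hψ x x (PPart.isPPart_of_isPGroup hx)
    rwa [inv_mul_cancel] at h2
  have h0 := irr_one_ne_zero hψ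
  have e : centralChar ψ x - ((Subgroup.centralizer ({x} : Set G)).index : ℂ) =
      (ψ x - ψ 1) * (((Subgroup.centralizer ({x} : Set G)).index : ℂ) * (ψ 1)⁻¹) := by
    rw [centralChar_def]
    field_simp
  rw [e]
  exact memLocalIdeal_mul_right h1 (memLocalRing_mul (memLocalRing_natCast _) (memLocalRing_inv_degree hM hψ h))

/-- If `ω_χ(g)` is a unit and `p` divides the class size of `g`, then `IMC p G`. -/
theorem imc_of_centralChar (hM : IsPModular p M) (χ : IrrCharacter G) {g : G}
    (hg : p ∣ (Subgroup.centralizer ({g} : Set G)).index) (h : ¬ MemLocalIdeal M (centralChar (χ : G → ℂ) g)) :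
    IMC p G := by
  have hP : M.IsPrime := hM.2.1.isPrime
  obtain ⟨P⟩ : Nonempty (Sylow p G) := inferInstance
  obtain ⟨ψ, hψ, hf⟩ := exists_fix hM ⟨χ, rfl⟩ P
  refine ⟨ψ, P, ?_, hf⟩
  by_contra hd
  exact h ((memLocalIdeal_iff_of_sub (hψ g)).2 (mem_of_dvd hM ψ.2 hd hg))

/-- If `x` is a `p`-element and `ω_χ(x)` is not the class size modulo `M`, then `IMC p G`. -/
theorem imc_of_ne (hM : IsPModular p M) (χ : IrrCharacter G) {x : G} (hx : ∃ k : ℕ, orderOf x = p ^ k)
    (h : ¬ MemLocalIdeal M (centralChar (χ : G → ℂ) x - ((Subgroup.centralizer ({x} : Set G)).index : ℂ))) :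
    IMC p G := by
  have hP : M.IsPrime := hM.2.1.isPrime
  obtain ⟨P⟩ : Nonempty (Sylow p G) := inferInstance
  obtain ⟨ψ, hψ, hf⟩ := exists_fix hM ⟨χ, rfl⟩ P
  refine ⟨ψ, P, ?_, hf⟩
  by_contra hd
  exact h (memLocalIdeal_sub_trans (hψ x) (sub_mem hM ψ.2 hd hx))

/-- Some irreducible character vanishes at a `p`-element whose class size is prime to `p`. -/
def ZC (p : ℕ) (G : Type u) [Group G] : Prop :=
  ∃ x : G, (∃ k : ℕ, orderOf x = p ^ k) ∧ ¬ p ∣ (Subgroup.centralizer ({x} : Set G)).index ∧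
    ∃ χ : IrrCharacter G, (χ : G → ℂ) x = 0

/-- **A zero at a `p`-central `p`-element.** -/
theorem imc_of_zc (h : ZC p G) : IMC p G := by
  obtain ⟨x, hx, hc, χ, h0⟩ := h
  obtain ⟨M, hM⟩ := ExistsModular.exists_isPModular hp.out
  have hP : M.IsPrime := hM.2.1.isPrime
  refine imc_of_ne hM χ hx ?_
  rw [centralChar_def, h0, mul_zero, zero_div, zero_sub, memLocalIdeal_neg_iff, memLocalIdeal_natCast_iff hM]
  exact hc

end Cfsg.Agent.H794.Imc
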